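import Mathlib
import Cfsg.Agent.S0684
import Cfsg.Agent.Lib.Basic
import Cfsg.Agent.Lib.RegularLinear.Semilinear

/-!
Linear groups transitive on the non-zero vectors: abelian normal subgroups act fixed-point-freely.
-/

set_option autoImplicit false
set_option linter.unusedSectionVars false

namespace CfsgLib.TransitiveLinear

open Polynomial

variable {q : ℕ} [hq : Fact q.Prime] {V : Type*} [AddCommGroup V] [Module (ZMod q) V] [Finite V] [Nontrivial V]
  {G : Type*} [Group G] [Finite G] {ρ : G →* (V ≃ₗ[ZMod q] V)}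

/-- The stabilizer of a vector. -/
def vecStab (ρ : G →* (V ≃ₗ[ZMod q] V)) (v : V) : Subgroup G where
  carrier := {g | ρ g v = v}
  one_mem' := by change ρ 1 v = v; rw [map_one]; rfl
  mul_mem' := fun {a b} ha hb => by
    change ρ (a * b) v = v
    rw [map_mul, LinearEquiv.mul_apply, show ρ b v = v from hb, show ρ a v = v from ha]
  inv_mem' := fun {a} ha => by
    change ρ a⁻¹ v = v
    conv_lhs => rw [show v = ρ a v from ha.symm]
    rw [← LinearEquiv.mul_apply, ← map_mul, inv_mul_cancel, map_one]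
    rfl

theorem mem_vecStab {g : G} {v : V} : g ∈ vecStab ρ v ↔ ρ g v = v := Iff.rfl

variable (hρ : Function.Injective ρ) (htrans : ∀ v w : V, v ≠ 0 → w ≠ 0 → ∃ g : G, ρ g v = w)
include hρ htrans

theorem irreducible (W : Submodule (ZMod q) V) (hW : ∀ g : G, ∀ w ∈ W, ρ g w ∈ W) : W = ⊥ ∨ W = ⊤ := by
  refine or_iff_not_imp_left.mpr fun hb => Submodule.eq_top_iff'.mpr fun v => ?_
  obtain ⟨w, hw, hw0⟩ := Submodule.exists_mem_ne_zero_of_ne_bot hb
  by_cases hv : v = 0
  · exact hv ▸ W.zero_mem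
  · obtain ⟨g, rfl⟩ := htrans w v hw0 hv
    exact hW g w hw

/-- An abelian normal subgroup of a transitive linear group acts fixed-point-freely. -/
theorem free_of_comm {A : Subgroup G} [hAn : A.Normal] (hA : ∀ a ∈ A, ∀ b ∈ A, a * b = b * a) {a : G} (ha : a ∈ A)
    {v : V} (hv : v ≠ 0) (hfix : ρ a v = v) : a = 1 := by
  classical
  let B : V → Subgroup G := fun u => A ⊓ vecStab ρ u
  have hcard : ∀ u w : V, u ≠ 0 → w ≠ 0 → Nat.card (B u) ≤ Nat.card (B w) := by
    intro u w hu hw
    obtain ⟨g, hg⟩ := htrans u w hu hw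
    refine Nat.card_le_card_of_injective (fun b => (⟨g * (b : G) * g⁻¹, hAn.conj_mem _ b.2.1 g, ?_⟩ : B w)) ?_
    · change ρ (g * (b : G) * g⁻¹) w = w
      rw [← hg, ← LinearEquiv.mul_apply, ← map_mul, inv_mul_cancel_right, map_mul, LinearEquiv.mul_apply,
        show ρ (b : G) u = u from b.2.2]
    · intro b c e
      exact Subtype.ext (by simpa using congrArg Subtype.val e)
  have heq : ∀ u w : V, u ≠ 0 → w ≠ 0 → B u ≤ B w → B u = B w := fun u w hu hw hle =>
    SetLike.coe_injective (Set.eq_of_subset_of_ncard_le hle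
      (by rw [← Nat.card_coe_set_eq, ← Nat.card_coe_set_eq]; exact hcard w u hw hu) (Set.toFinite _))
  -- all vectors have the same stabilizer in `A`
  have hsame : ∀ u w : V, u ≠ 0 → w ≠ 0 → B u = B w := by
    intro u w hu hw
    by_cases hsum : u + w = 0
    · rw [eq_neg_of_add_eq_zero_right hsum]
      ext g
      simp only [B, Subgroup.mem_inf, mem_vecStab, map_neg, neg_inj]
    by_contra hne
    have key : ∀ b ∈ B (u + w), ρ b u = u := by
      intro b hb
      by_contra hbu
      set d := ρ b u - u with hd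
      have hd0 : d ≠ 0 := sub_ne_zero.mpr hbu
      have hbw : d = w - ρ b w := by
        have h : ρ b (u + w) = u + w := hb.2
        rw [map_add] at h
        rw [hd, sub_eq_sub_iff_add_eq_add, h, add_comm]
      have h1 : B u ≤ B d := fun c hc => ⟨hc.1, by
        change ρ c d = d
        rw [hd, map_sub, show ρ c (ρ b u) = ρ b (ρ c u) by
          rw [← LinearEquiv.mul_apply, ← LinearEquiv.mul_apply, ← map_mul, ← map_mul, hA c hc.1 b hb.1],
          show ρ c u = u from hc.2]⟩
      have h2 : B w ≤ B d := fun c hc => ⟨hc.1, by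
        change ρ c d = d
        rw [hbw, map_sub, show ρ c (ρ b w) = ρ b (ρ c w) by
          rw [← LinearEquiv.mul_apply, ← LinearEquiv.mul_apply, ← map_mul, ← map_mul, hA c hc.1 b hb.1],
          show ρ c w = w from hc.2]⟩
      exact hne ((heq u d hu hd0 h1).trans (heq w d hw hd0 h2).symm)
    have h1 : B (u + w) ≤ B u := fun b hb => ⟨hb.1, key b hb⟩
    have h2 : B (u + w) ≤ B w := fun b hb => ⟨hb.1, by
      have h : ρ b (u + w) = u + w := hb.2
      rw [map_add, key b hb] at h
      exact add_left_cancel h⟩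
    exact hne ((heq _ u hsum hu h1).symm.trans (heq _ w hsum hw h2))
  refine hρ (LinearEquiv.ext fun w => ?_)
  by_cases hw : w = 0
  · simp [hw]
  · have : a ∈ B w := hsame v w hv hw ▸ ⟨ha, hfix⟩
    rw [map_one]
    exact this.2

theorem cyclic_dvd_of_comm {A : Subgroup G} [A.Normal] (hA : ∀ a ∈ A, ∀ b ∈ A, a * b = b * a)
    (W₀ : Submodule (ZMod q) V) (h0 : W₀ ≠ ⊥) (hinv : ∀ a ∈ A, ∀ w ∈ W₀, ρ a w ∈ W₀) :
    IsCyclic A ∧ ∃ i, 1 ≤ i ∧ i ≤ Module.finrank (ZMod q) W₀ ∧ Nat.card A ∣ q ^ i - 1 := by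
  obtain ⟨W, hle, hne, hi, hm⟩ := Cfsg.Agent.S0684.existsMinimal (A := A) (fun a v => ρ (a : G) v) W₀ h0
    (fun a v hv => hinv a a.2 v hv)
  obtain ⟨hc, hd⟩ := Cfsg.Agent.S0684.cyclicOfMinimal (A := A) (fun a b => Subtype.ext (hA a a.2 b b.2))
    (ρ.comp A.subtype) (fun a v hv h => Subtype.ext (free_of_comm hρ htrans hA a.2 hv h)) W hne hi hm
  exact ⟨hc, Module.finrank (ZMod q) W, Submodule.one_le_finrank_iff.mpr hne, Submodule.finrank_mono hle, hd⟩

theorem semi_of_comm (A : Subgroup G) [A.Normal] (hA : ∀ a ∈ A, ∀ b ∈ A, a * b = b * a)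
    (h : ∀ i, 1 ≤ i → i < Module.finrank (ZMod q) V → ¬ Nat.card A ∣ q ^ i - 1) : CfsgLib.RegularLinear.Semi ρ := by
  refine CfsgLib.RegularLinear.semi_of_irreducible ρ A hA fun W hW => ?_
  by_contra hh
  push Not at hh
  obtain ⟨-, i, h1, h2, h3⟩ := cyclic_dvd_of_comm hρ htrans hA W hh.1 hW
  exact h i h1 (lt_of_le_of_lt h2 (Submodule.finrank_lt hh.2)) h3

/-- A normal abelian subgroup of order dividing `q - 1` is central. -/
theorem central_of_small {A : Subgroup G} [hAn : A.Normal] (hA : ∀ a ∈ A, ∀ b ∈ A, a * b = b * a)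
    (hd : Nat.card A ∣ q - 1) : A ≤ Subgroup.center G := by
  classical
  intro a ha
  let T : Module.End (ZMod q) V := (ρ a).toLinearMap
  have hTp : ∀ (j : ℕ) (v : V), (T ^ j) v = ρ (a ^ j) v := fun j => by
    induction j with
    | zero => intro v; rw [pow_zero, pow_zero, map_one]; rfl
    | succ j ih =>
      intro v
      rw [pow_succ, pow_succ, map_mul, Module.End.mul_apply, ih]
      rfl
  have haq : a ^ q = a := by
    have h1 : a ^ (q - 1) = 1 := orderOf_dvd_iff_pow_eq_one.mp ((Subgroup.orderOf_dvd_natCard A ha).trans hd)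
    conv_lhs => rw [show q = q - 1 + 1 from (Nat.succ_pred_eq_of_pos hq.out.pos).symm, pow_succ, h1, one_mul]
  have hint : IsIntegral (ZMod q) T := Algebra.IsIntegral.isIntegral T
  have hf0 : (X ^ q - X : (ZMod q)[X]) ≠ 0 := FiniteField.X_pow_card_sub_X_ne_zero _ hq.out.one_lt
  have hμd : minpoly (ZMod q) T ∣ X ^ q - X := minpoly.dvd _ _ (by
    rw [map_sub, map_pow, aeval_X, sub_eq_zero]
    refine LinearMap.ext fun v => ?_
    rw [hTp, haq]; rfl)
  have hsplit : (X ^ q - X : (ZMod q)[X]).Splits := by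
    have h := FiniteField.roots_X_pow_card_sub_X (ZMod q)
    rw [ZMod.card] at h
    rw [Polynomial.splits_iff_card_roots, h, FiniteField.X_pow_card_sub_X_natDegree_eq _ hq.out.one_lt,
      Finset.card_val, Finset.card_univ, ZMod.card]
  obtain ⟨c, hc⟩ := (hsplit.of_dvd hf0 hμd).exists_eval_eq_zero (minpoly.degree_pos hint).ne'
  obtain ⟨v, hv⟩ := (Module.End.hasEigenvalue_of_isRoot hc).exists_hasEigenvector
  haveI : IsCyclic A := (cyclic_dvd_of_comm hρ htrans hA ⊤ top_ne_bot fun _ _ _ _ => Submodule.mem_top).1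
  have hv0 : v ≠ 0 := hv.2
  have hev : ∀ w : V, w ≠ 0 → ∃ d : ZMod q, ρ a w = d • w := by
    intro w hw
    obtain ⟨g, rfl⟩ := htrans v w hv0 hw
    obtain ⟨m, hm⟩ := ((MulAut.conjNormal g⁻¹ : MulAut A).toMonoidHom).map_cyclic
    have hm' : g⁻¹ * a * g = a ^ m := by
      have := congrArg Subtype.val (hm ⟨a, ha⟩)
      simpa [MulAut.conjNormal_apply] using this
    obtain ⟨k, -, hk⟩ := Finset.mem_image.mp
      (mem_zpowers_iff_mem_range_orderOf.mp (Subgroup.zpow_mem _ (Subgroup.mem_zpowers a) m))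
    refine ⟨c ^ k, ?_⟩
    rw [show ρ a (ρ g v) = ρ g (ρ (g⁻¹ * a * g) v) by
      rw [← LinearEquiv.mul_apply, ← LinearEquiv.mul_apply, ← map_mul, ← map_mul]; congr 2; group, hm', ← hk, ← hTp]
    rw [hv.pow_apply k, map_smul]
  -- a linear map with every vector an eigenvector is scalar
  have hscal : ∀ w : V, ρ a w = c • w := by
    intro w
    by_cases hw : w = 0
    · simp [hw]
    obtain ⟨c', hc'⟩ := hev w hw
    have hv1 : ρ a v = c • v := hv.apply_eq_smul
    by_cases hsp : ∃ t : ZMod q, t • v = w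
    · obtain ⟨t, rfl⟩ := hsp
      rw [map_smul, hv1, smul_comm]
    push Not at hsp
    have hvw : v + w ≠ 0 := fun e => hsp (-1) (by rw [neg_one_smul]; exact neg_eq_of_add_eq_zero_right e)
    obtain ⟨d, hd'⟩ := hev _ hvw
    rw [map_add, hv1, hc', smul_add] at hd'
    have h0 : (c' - d) • w = (d - c) • v := by
      rw [sub_smul, sub_smul, sub_eq_sub_iff_add_eq_add, add_comm, hd', add_comm]
    have h1 : c' = d := by
      by_contra hne
      refine hsp ((c' - d)⁻¹ * (d - c)) ?_
      rw [mul_smul, ← h0, smul_smul, inv_mul_cancel₀ (sub_ne_zero.mpr hne), one_smul]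
    rw [h1, sub_self, zero_smul] at h0
    rcases smul_eq_zero.mp h0.symm with h | h
    · rw [hc', h1, sub_eq_zero.mp h]
    · exact absurd h hv0
  refine Subgroup.mem_center_iff.mpr fun g => hρ ?_
  refine LinearEquiv.ext fun w => ?_
  rw [map_mul, map_mul, LinearEquiv.mul_apply, LinearEquiv.mul_apply, hscal, hscal, map_smul]

/-- A transitive linear group in characteristic `q` has trivial `q`-core. -/
theorem pCore_eq_bot : Cfsg.pCore q G = ⊥ := by
  classical
  set P := Cfsg.pCore q G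
  haveI : P.Normal := by infer_instance
  letI : MulAction P V := MulAction.compHom V (((LinearEquiv.automorphismGroup.toLinearMapMonoidHom).comp ρ).comp P.subtype)
  have hs : ∀ (b : P) (v : V), b • v = ρ (b : G) v := fun _ _ => rfl
  have hdvd : q ∣ Nat.card V := by
    rw [Module.natCard_eq_pow_finrank (K := ZMod q), Nat.card_zmod]
    exact dvd_pow_self q Module.finrank_pos.ne'
  obtain ⟨v, hv, hv0⟩ := (CfsgLib.isPGroup_pCore q (G := G)).exists_fixed_point_of_prime_dvd_card_of_fixed_point V hdvd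
    (a := 0) (fun b => by rw [hs, map_zero])
  rw [Subgroup.eq_bot_iff_forall]
  intro b hb
  refine hρ (LinearEquiv.ext fun w => ?_)
  rw [map_one]
  by_cases hw : w = 0
  · simp [hw]
  obtain ⟨g, rfl⟩ := htrans v w (Ne.symm hv0) hw
  have h := hv ⟨g⁻¹ * b * g, by simpa using Subgroup.Normal.conj_mem (inferInstance : P.Normal) b hb g⁻¹⟩
  rw [hs] at h
  change ρ b (ρ g v) = ρ g v
  conv_rhs => rw [← h]
  rw [← LinearEquiv.mul_apply, ← LinearEquiv.mul_apply, ← map_mul, ← map_mul]
  congr 2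
  change b * g = g * (g⁻¹ * b * g)
  group

end CfsgLib.TransitiveLinear
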