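import Mathlib

/-!
Groups of class two with cyclic centre acting linearly: the central quotient has square order at most `n ^ 2`.
-/

set_option autoImplicit false
set_option linter.unusedSectionVars false

namespace CfsgLib.TransitiveLinear

open Subgroup

theorem card_hom_le (M : Type*) [Group M] [Finite M] (Z : Type*) [CommGroup Z] [Finite Z] [IsCyclic Z] :
    Nat.card (M →* Z) ≤ Nat.card M := by
  classical
  haveI : Fintype M := Fintype.ofFinite M
  haveI : NeZero (Nat.card Z) := ⟨Nat.card_pos.ne'⟩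
  let e : Multiplicative (ZMod (Nat.card Z)) ≃* Z := zmodCyclicMulEquiv inferInstance
  let ι : Z →* ℂ := (ZMod.stdAddChar (N := Nat.card Z)).toMonoidHom.comp e.symm.toMonoidHom
  have hι : Function.Injective ι :=
    ZMod.injective_stdAddChar.comp (Multiplicative.toAdd.injective.comp e.symm.injective)
  have hinj : Function.Injective fun f : M →* Z => ι.comp f := fun f g h =>
    MonoidHom.ext fun m => hι (DFunLike.congr_fun h m)
  haveI : Finite (M →* Z) := Finite.of_injective _ DFunLike.coe_injective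
  haveI : Fintype (M →* Z) := Fintype.ofFinite _
  have h := ((linearIndependent_monoidHom M ℂ).comp _ hinj).fintype_card_le_finrank
  rwa [Module.finrank_pi, ← Nat.card_eq_fintype_card, ← Nat.card_eq_fintype_card] at h

variable {R : Type*} [Group R] [Finite R]

/-- The central quotient of a class two group with cyclic centre has square order. -/
theorem index_sq (hcom : ∀ a b : R, a * b * a⁻¹ * b⁻¹ ∈ center R) [IsCyclic (center R)] :
    ∃ b, (center R).index = b * b := by
  classical
  letI : CommGroup (center R) := IsCyclic.commGroup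
  obtain ⟨A, -, hA⟩ := Finite.exists_le_maximal (p := fun B : Subgroup R => center R ≤ B ∧ B ≤ centralizer (B : Set R))
    (a := center R) ⟨le_rfl, center_le_centralizer _⟩
  obtain ⟨hZA, hAc⟩ := hA.prop
  have hCA : centralizer (A : Set R) ≤ A := by
    intro g hg
    have hle : A ⊔ zpowers g ≤ centralizer ((A ⊔ zpowers g : Subgroup R) : Set R) := by
      have h1 : A ≤ centralizer ((A ⊔ zpowers g : Subgroup R) : Set R) :=
        le_centralizer_iff.mp (sup_le hAc (zpowers_le.mpr hg))
      refine sup_le h1 (le_centralizer_iff.mp (sup_le ?_ ?_))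
      · exact le_centralizer_iff.mp (zpowers_le.mpr hg)
      · rw [zpowers_le, mem_centralizer_iff]
        intro b hb
        obtain ⟨k, rfl⟩ := mem_zpowers_iff.mp hb
        exact ((Commute.refl g).zpow_left k).eq
    exact hA.le_of_ge ⟨hZA.trans le_sup_left, hle⟩ le_sup_left (mem_sup_right (mem_zpowers g))
  have hAn : A.Normal := by
    constructor
    intro a ha g
    have := mul_mem (hZA (hcom g a)) ha
    rwa [inv_mul_cancel_right] at this
  let br : R → R → center R := fun g a => ⟨g * a * g⁻¹ * a⁻¹, hcom g a⟩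
  have hmulr : ∀ g a b, br g (a * b) = br g a * br g b := fun g a b => by
    refine Subtype.ext ?_
    change g * (a * b) * g⁻¹ * (a * b)⁻¹ = g * a * g⁻¹ * a⁻¹ * (g * b * g⁻¹ * b⁻¹)
    have := mem_center_iff.mp (hcom g b) a⁻¹
    calc g * (a * b) * g⁻¹ * (a * b)⁻¹ = g * a * g⁻¹ * ((g * b * g⁻¹ * b⁻¹) * a⁻¹) := by group
      _ = g * a * g⁻¹ * (a⁻¹ * (g * b * g⁻¹ * b⁻¹)) := by rw [this]
      _ = _ := by group
  have hmull : ∀ g h a, br (g * h) a = br g a * br h a := fun g h a => by
    refine Subtype.ext ?_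
    change g * h * a * (g * h)⁻¹ * a⁻¹ = g * a * g⁻¹ * a⁻¹ * (h * a * h⁻¹ * a⁻¹)
    have h1 := mem_center_iff.mp (hcom h a) g
    have h2 := mem_center_iff.mp (hcom h a) (g * a * g⁻¹ * a⁻¹)
    calc g * h * a * (g * h)⁻¹ * a⁻¹ = g * (h * a * h⁻¹ * a⁻¹) * (a * g⁻¹ * a⁻¹) := by group
      _ = (h * a * h⁻¹ * a⁻¹) * g * (a * g⁻¹ * a⁻¹) := by rw [h1]
      _ = (h * a * h⁻¹ * a⁻¹) * (g * a * g⁻¹ * a⁻¹) := by group
      _ = _ := by rw [h2]
  let χ : R → A →* center R := fun g => MonoidHom.mk' (fun a => br g a) fun a b => hmulr g a b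
  have hχZ : ∀ g, (center R).subgroupOf A ≤ (χ g).ker := fun g a ha => by
    refine Subtype.ext ?_
    change g * (a : R) * g⁻¹ * (a : R)⁻¹ = 1
    rw [mem_center_iff.mp (mem_subgroupOf.mp ha) g, mul_inv_cancel_right, mul_inv_cancel]
  let χ' : R → (A ⧸ (center R).subgroupOf A) →* center R := fun g => QuotientGroup.lift _ (χ g) (hχZ g)
  have h1 : Nat.card (R ⧸ A) ≤ Nat.card (A ⧸ (center R).subgroupOf A) := by
    haveI : Finite ((A ⧸ (center R).subgroupOf A) →* center R) := Finite.of_injective _ DFunLike.coe_injective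
    refine (Nat.card_le_card_of_injective (fun u : R ⧸ A => χ' u.out) fun u v h => ?_).trans (card_hom_le _ _)
    rw [← QuotientGroup.out_eq' u, ← QuotientGroup.out_eq' v]
    refine QuotientGroup.eq.mpr (hCA (mem_centralizer_iff.mpr fun a ha => ?_))
    have h2 := congrArg Subtype.val (DFunLike.congr_fun h (QuotientGroup.mk (⟨a, ha⟩ : A)))
    change u.out * a * u.out⁻¹ * a⁻¹ = v.out * a * v.out⁻¹ * a⁻¹ at h2
    have h3 : u.out * a * u.out⁻¹ = v.out * a * v.out⁻¹ := mul_right_cancel h2
    calc a * (u.out⁻¹ * v.out) = u.out⁻¹ * (u.out * a * u.out⁻¹) * v.out := by group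
      _ = u.out⁻¹ * (v.out * a * v.out⁻¹) * v.out := by rw [h3]
      _ = u.out⁻¹ * v.out * a := by group
  let η : R → R →* center R := fun a => MonoidHom.mk' (fun g => br g a) fun g h => hmull g h a
  have hηA : ∀ a : A, A ≤ (η a).ker := fun a g hg => by
    refine Subtype.ext ?_
    change g * (a : R) * g⁻¹ * (a : R)⁻¹ = 1
    rw [← mem_centralizer_iff.mp (hAc a.2) g hg |>.symm]
    group
  let η' : A → (R ⧸ A) →* center R := fun a => QuotientGroup.lift _ (η a) (hηA a)
  have h2 : Nat.card (A ⧸ (center R).subgroupOf A) ≤ Nat.card (R ⧸ A) := by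
    haveI : Finite ((R ⧸ A) →* center R) := Finite.of_injective _ DFunLike.coe_injective
    refine (Nat.card_le_card_of_injective (fun u : A ⧸ (center R).subgroupOf A => η' u.out) fun u v h => ?_).trans
      (card_hom_le _ _)
    rw [← QuotientGroup.out_eq' u, ← QuotientGroup.out_eq' v]
    refine QuotientGroup.eq.mpr (mem_subgroupOf.mpr (mem_center_iff.mpr fun g => ?_))
    have h2 := congrArg Subtype.val (DFunLike.congr_fun h (QuotientGroup.mk g))
    change g * (u.out : R) * g⁻¹ * (u.out : R)⁻¹ = g * (v.out : R) * g⁻¹ * (v.out : R)⁻¹ at h2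
    rw [Subgroup.coe_mul, Subgroup.coe_inv]
    calc g * ((u.out : R)⁻¹ * v.out) = g * (u.out : R)⁻¹ * g⁻¹ * (g * (v.out : R) * g⁻¹ * (v.out : R)⁻¹) * v.out * g := by
          group
      _ = g * (u.out : R)⁻¹ * g⁻¹ * (g * (u.out : R) * g⁻¹ * (u.out : R)⁻¹) * v.out * g := by rw [h2]
      _ = (u.out : R)⁻¹ * v.out * g := by group
  refine ⟨A.index, ?_⟩
  rw [← relIndex_mul_index hZA]
  congr 1
  rw [relIndex, index_eq_card, index_eq_card]
  exact le_antisymm h2 h1

/-- Coset representatives of the centre are linearly independent. -/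
theorem linearIndependent_out {q : ℕ} [hq : Fact q.Prime] {V : Type*} [AddCommGroup V] [Module (ZMod q) V] [Finite V] [Nontrivial V]
    (ψ : R →* (V ≃ₗ[ZMod q] V)) (hcom : ∀ a b : R, a * b * a⁻¹ * b⁻¹ ∈ center R)
    (hfree : ∀ z ∈ center R, ∀ v : V, v ≠ 0 → ψ z v = v → z = 1) :
    LinearIndependent (ZMod q) fun u : R ⧸ center R => (ψ u.out).toLinearMap := by
  classical
  haveI : Fintype (R ⧸ center R) := Fintype.ofFinite _
  let T : R → Module.End (ZMod q) V := fun g => (ψ g).toLinearMap
  have hT : ∀ g h, T (g * h) = T g * T h := fun g h => LinearMap.ext fun v => by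
    change ψ (g * h) v = ψ g (ψ h v)
    rw [map_mul]; rfl
  have hT1 : T 1 = 1 := LinearMap.ext fun v => by change ψ 1 v = v; rw [map_one]; rfl
  have hTZ : ∀ z ∈ center R, ∀ g, Commute (T z) (T g) := fun z hz g => by
    rw [Commute, SemiconjBy, ← hT, ← hT, mem_center_iff.mp hz g]
  have hTd : ∀ z ∈ center R, ∀ z' ∈ center R, z ≠ z' → Function.Injective (T z - T z') := fun z hz z' hz' hne => by
    refine (injective_iff_map_eq_zero _).mpr fun v hv => by_contra fun hv0 => hne ?_
    rw [LinearMap.sub_apply, sub_eq_zero] at hv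
    refine (inv_mul_eq_one.mp (hfree (z'⁻¹ * z) (mul_mem (inv_mem hz') hz) v hv0 ?_)).symm
    change ψ z v = ψ z' v at hv
    rw [map_mul, LinearEquiv.mul_apply, hv, ← LinearEquiv.mul_apply, ← map_mul, inv_mul_cancel, map_one]
    rfl
  let f : R ⧸ center R → R := fun u => u.out
  have key : ∀ (s : Finset (R ⧸ center R)) (D : R ⧸ center R → Module.End (ZMod q) V),
      (∀ i ∈ s, Function.Injective (D i) ∧ ∀ g, Commute (D i) (T g)) → ∑ i ∈ s, D i * T (f i) = 0 → s = ∅ := by
    intro s
    induction s using Finset.strongInductionOn with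
    | _ s ih =>
      intro D hD hsum
      by_contra hne
      obtain ⟨i₀, hi₀⟩ := Finset.nonempty_iff_ne_empty.mpr hne
      by_cases hex : ∃ i₁ ∈ s, i₁ ≠ i₀
      · obtain ⟨i₁, hi₁, h10⟩ := hex
        obtain ⟨h, hh⟩ : ∃ h : R, h * f i₁ * h⁻¹ * (f i₁)⁻¹ ≠ h * f i₀ * h⁻¹ * (f i₀)⁻¹ := by
          by_contra hall
          push Not at hall
          refine h10.symm ?_
          rw [← QuotientGroup.out_eq' i₀, ← QuotientGroup.out_eq' i₁]
          refine QuotientGroup.eq.mpr (mem_center_iff.mpr fun g => ?_)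
          have h2 := hall g
          change g * ((f i₀)⁻¹ * f i₁) = (f i₀)⁻¹ * f i₁ * g
          calc g * ((f i₀)⁻¹ * f i₁) = g * (f i₀)⁻¹ * g⁻¹ * (g * f i₁ * g⁻¹ * (f i₁)⁻¹) * f i₁ * g := by group
            _ = g * (f i₀)⁻¹ * g⁻¹ * (g * f i₀ * g⁻¹ * (f i₀)⁻¹) * f i₁ * g := by rw [h2]
            _ = (f i₀)⁻¹ * f i₁ * g := by group
        let z : R ⧸ center R → R := fun i => h * f i * h⁻¹ * (f i)⁻¹
        have hconj : ∀ i ∈ s, T h * (D i * T (f i)) * T h⁻¹ = D i * T (z i) * T (f i) := fun i hi => by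
          rw [← mul_assoc, ← ((hD i hi).2 h).eq]
          simp only [mul_assoc, ← hT]
          congr 2
          change h * (f i * h⁻¹) = h * f i * h⁻¹ * (f i)⁻¹ * f i
          group
        have h0 : ∑ i ∈ s, D i * T (z i) * T (f i) = 0 := by
          rw [← Finset.sum_congr rfl hconj, ← Finset.sum_mul, ← Finset.mul_sum, hsum, mul_zero, zero_mul]
        have h0' : ∑ i ∈ s, D i * T (z i₀) * T (f i) = 0 := by
          rw [Finset.sum_congr rfl fun i hi => show D i * T (z i₀) * T (f i) = T (z i₀) * (D i * T (f i)) by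
            rw [((hD i hi).2 (z i₀)).eq, mul_assoc], ← Finset.mul_sum, hsum, mul_zero]
        let E : R ⧸ center R → Module.End (ZMod q) V := fun i => D i * (T (z i) - T (z i₀))
        have hE : ∑ i ∈ s.filter (fun i => z i ≠ z i₀), E i * T (f i) = 0 := by
          rw [Finset.sum_filter_of_ne (p := fun i => z i ≠ z i₀) fun i _ hEi hzi => hEi (by simp [E, hzi])]
          simp only [E, mul_sub, sub_mul]
          rw [Finset.sum_sub_distrib, h0, h0', sub_zero]
        have hnil := ih _ (Finset.filter_ssubset.mpr ⟨i₀, hi₀, by simp⟩) E (fun i hi => by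
          rw [Finset.mem_filter] at hi
          refine ⟨(hD i hi.1).1.comp (hTd _ (hcom _ _) _ (hcom _ _) hi.2), fun g => ?_⟩
          exact ((hD i hi.1).2 g).mul_left ((hTZ _ (hcom _ _) g).sub_left (hTZ _ (hcom _ _) g))) hE
        exact Finset.eq_empty_iff_forall_notMem.mp hnil i₁ (Finset.mem_filter.mpr ⟨hi₁, hh⟩)
      · push Not at hex
        rw [show s = {i₀} from Finset.eq_singleton_iff_unique_mem.mpr ⟨hi₀, hex⟩, Finset.sum_singleton] at hsum
        obtain ⟨v, hv⟩ := exists_ne (0 : V)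
        have := LinearMap.congr_fun hsum v
        change D i₀ (ψ (f i₀) v) = 0 at this
        exact hv ((ψ (f i₀)).map_eq_zero_iff.mp ((hD i₀ hi₀).1 (this.trans (map_zero _).symm)))
  show LinearIndependent (ZMod q) fun i => T (f i)
  rw [Fintype.linearIndependent_iff]
  intro c hc i
  have := key (Finset.univ.filter fun j => c j ≠ 0) (fun j => c j • 1) (fun j hj => by
    rw [Finset.mem_filter] at hj
    refine ⟨fun a b e => ?_, fun g => (Commute.one_left _).smul_left _⟩
    simpa [smul_right_inj hj.2] using e) (by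
    rw [Finset.sum_filter_of_ne (p := fun j => c j ≠ 0) (fun j _ hj hcj => hj (by simp [hcj]))]
    simpa only [smul_mul_assoc, one_mul] using hc)
  by_contra hci
  exact Finset.eq_empty_iff_forall_notMem.mp this i (by simp [hci])

/-- The centre has index at most the square of the dimension. -/
theorem index_le_sq {q : ℕ} [hq : Fact q.Prime] {V : Type*} [AddCommGroup V] [Module (ZMod q) V] [Finite V] [Nontrivial V]
    (ψ : R →* (V ≃ₗ[ZMod q] V)) (hcom : ∀ a b : R, a * b * a⁻¹ * b⁻¹ ∈ center R)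
    (hfree : ∀ z ∈ center R, ∀ v : V, v ≠ 0 → ψ z v = v → z = 1) :
    (center R).index ≤ Module.finrank (ZMod q) V ^ 2 := by
  classical
  haveI : Fintype (R ⧸ center R) := Fintype.ofFinite _
  have h := (linearIndependent_out ψ hcom hfree).fintype_card_le_finrank
  rwa [Module.finrank_linearMap, ← Nat.card_eq_fintype_card, ← Subgroup.index_eq_card, ← pow_two] at h

/-- An element fixed by an automorphism, with fixed commutators, is central. -/
theorem central_of_fixed (σ : MulAut R) (hgen : closure (Set.range fun b => b⁻¹ * σ b) = ⊤) {a : R} (ha : σ a = a)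
    (hfix : ∀ b, σ (a * b * a⁻¹ * b⁻¹) = a * b * a⁻¹ * b⁻¹) : a ∈ center R := by
  have h : closure (Set.range fun b => b⁻¹ * σ b) ≤ centralizer ({a} : Set R) := by
    rw [closure_le]
    rintro _ ⟨b, rfl⟩
    refine mem_centralizer_singleton_iff.mpr ?_
    have e := hfix b
    rw [map_mul, map_mul, map_mul, map_inv, map_inv, ha] at e
    calc b⁻¹ * σ b * a = b⁻¹ * (a * σ b * a⁻¹ * (σ b)⁻¹)⁻¹ * a * σ b := by group
      _ = b⁻¹ * (a * b * a⁻¹ * b⁻¹)⁻¹ * a * σ b := by rw [e]
      _ = a * (b⁻¹ * σ b) := by group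
  rw [hgen] at h
  exact mem_center_iff.mpr fun g => mem_centralizer_singleton_iff.mp (h (mem_top g))

end CfsgLib.TransitiveLinear
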