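import Mathlib
import Cfsg.Agent.Lib.RegularLinear.Structure
import Cfsg.Agent.Lib.TransitiveLinear.ClassTwo

/-!
An irreducible element of large prime power order acting on an `s`-subgroup of a linear group.
-/

set_option autoImplicit false
set_option linter.unusedSectionVars false

namespace CfsgLib.TransitiveLinear

variable {q : ℕ} [hq : Fact q.Prime] {V : Type*} [AddCommGroup V] [Module (ZMod q) V] [Finite V] [Nontrivial V]
  {G : Type*} [Group G] [Finite G] {ρ : G →* (V ≃ₗ[ZMod q] V)}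

/-- An element of prime order for a primitive prime acts irreducibly. -/
theorem irreducible_of_primitive (hρ : Function.Injective ρ) {x : G} {r : ℕ} [hr : Fact r.Prime] (hx : orderOf x = r) (hrq : r ≠ q)
    (hprim : ∀ i, 1 ≤ i → i < Module.finrank (ZMod q) V → ¬ r ∣ q ^ i - 1) (W : Submodule (ZMod q) V)
    (hW : ∀ w ∈ W, ρ x w ∈ W) : W = ⊥ ∨ W = ⊤ := by
  classical
  -- counting fixed points on an invariant subspace
  have count : ∀ (U : Submodule (ZMod q) V), (∀ w ∈ U, ρ x w ∈ U) → ∀ F : Submodule (ZMod q) V, F ≤ U →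
      (∀ w ∈ U, ρ x w = w ↔ w ∈ F) → r ∣ q ^ (Module.finrank (ZMod q) U - Module.finrank (ZMod q) F) - 1 := by
    intro U hU F hFU hF
    have hmem : ∀ h : Subgroup.zpowers x, ∀ w ∈ U, ρ (h : G) w ∈ U := by
      rintro ⟨h, hh⟩ w hw
      obtain ⟨j, -, rfl⟩ := Finset.mem_image.mp (mem_zpowers_iff_mem_range_orderOf.mp hh)
      change ρ (x ^ j) w ∈ U
      clear hh
      induction j generalizing w with
      | zero => rw [pow_zero, map_one]; exact hw
      | succ j ih =>
        rw [pow_succ, map_mul, LinearEquiv.mul_apply]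
        exact ih _ (hU w hw)
    letI : MulAction (Subgroup.zpowers x) U :=
      { smul := fun h w => ⟨ρ (h : G) w, hmem h w w.2⟩
        one_smul := fun w => Subtype.ext (by change ρ 1 (w : V) = w; rw [map_one]; rfl)
        mul_smul := fun g h w => Subtype.ext (by
          change ρ ((g : G) * h) (w : V) = ρ (g : G) (ρ (h : G) w)
          rw [map_mul]; rfl) }
    have hP : IsPGroup r (Subgroup.zpowers x) := IsPGroup.of_card (n := 1) (by rw [Nat.card_zpowers, hx, pow_one])
    have h1 := hP.card_modEq_card_fixedPoints U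
    have h2 : Nat.card (MulAction.fixedPoints (Subgroup.zpowers x) U) = Nat.card F := by
      refine Nat.card_congr
        { toFun := fun w => ⟨(w : U), (hF _ (w : U).2).mp
            (congrArg Subtype.val (w.2 ⟨x, Subgroup.mem_zpowers x⟩))⟩
          invFun := fun w => ⟨⟨w, hFU w.2⟩, fun h => Subtype.ext (by
            obtain ⟨h, hh⟩ := h
            obtain ⟨j, -, rfl⟩ := Finset.mem_image.mp (mem_zpowers_iff_mem_range_orderOf.mp hh)
            change ρ (x ^ j) (w : V) = w
            clear hh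
            induction j with
            | zero => rw [pow_zero, map_one]; rfl
            | succ j ih => rw [pow_succ, map_mul, LinearEquiv.mul_apply, (hF _ (hFU w.2)).mpr w.2, ih])⟩
          left_inv := fun _ => rfl
          right_inv := fun _ => rfl }
    rw [h2, Module.natCard_eq_pow_finrank (K := ZMod q) (V := U), Module.natCard_eq_pow_finrank (K := ZMod q) (V := F),
      Nat.card_zmod] at h1
    have hle := Submodule.finrank_mono hFU
    generalize Module.finrank (ZMod q) U = u at h1 hle ⊢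
    generalize Module.finrank (ZMod q) F = f at h1 hle ⊢
    obtain ⟨e, rfl⟩ := Nat.exists_eq_add_of_le hle
    rw [Nat.add_sub_cancel_left]
    have hd : r ∣ q ^ (f + e) - q ^ f := (Nat.modEq_iff_dvd' (Nat.pow_le_pow_right hq.out.pos (Nat.le_add_right _ _))).mp h1.symm
    rw [pow_add, ← Nat.mul_sub_one] at hd
    exact ((Nat.coprime_primes hr.out hq.out).mpr hrq).pow_right f |>.dvd_of_dvd_mul_left hd
  -- the fixed subspace is trivial
  let T : Module.End (ZMod q) V := (ρ x).toLinearMap - 1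
  have hfix : ∀ w, w ∈ LinearMap.ker T ↔ ρ x w = w := fun w => by
    rw [LinearMap.mem_ker]
    change ρ x w - w = 0 ↔ _
    rw [sub_eq_zero]
  have hF : LinearMap.ker T = ⊥ := by
    by_contra hne
    have hd := count ⊤ (fun _ _ => Submodule.mem_top) (LinearMap.ker T) le_top fun w _ => (hfix w).symm
    rw [finrank_top] at hd
    have h1 := Submodule.one_le_finrank_iff.mpr hne
    have h2 : LinearMap.ker T ≠ ⊤ := fun htop => by
      have : x = 1 := hρ (LinearEquiv.ext fun w => by
        rw [map_one]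
        exact (hfix w).mp (htop ▸ Submodule.mem_top))
      rw [this, orderOf_one] at hx
      exact hr.out.one_lt.ne hx
    have h3 := Submodule.finrank_lt h2
    exact hprim _ (by omega) (by omega) hd
  refine or_iff_not_imp_left.mpr fun hb => ?_
  by_contra htop
  have hd := count W hW ⊥ bot_le fun w _ => by
    rw [← hF]; exact (hfix w).symm
  rw [finrank_bot, Nat.sub_zero] at hd
  exact hprim _ (Submodule.one_le_finrank_iff.mpr hb) (Submodule.finrank_lt htop) hd

/-- The automorphism induced on a subgroup by a normalising element. -/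
noncomputable def restrictConj (P : Subgroup G) (g : G) (hg : ∀ b ∈ P, g * b * g⁻¹ ∈ P) : MulAut P :=
  MulEquiv.ofBijective (MonoidHom.mk' (fun b : P => (⟨g * b * g⁻¹, hg b b.2⟩ : P)) fun a b => Subtype.ext (by
    change g * ((a : G) * b) * g⁻¹ = g * a * g⁻¹ * (g * b * g⁻¹)
    group))
    (Finite.injective_iff_bijective.mp fun a b e => Subtype.ext (by simpa using congrArg Subtype.val e))

@[simp] theorem restrictConj_coe (P : Subgroup G) (g : G) (hg : ∀ b ∈ P, g * b * g⁻¹ ∈ P) (b : P) :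
    ((restrictConj P g hg b : P) : G) = g * b * g⁻¹ := rfl

section Pivot

variable (hρ : Function.Injective ρ) {x : G} {r : ℕ} [hr : Fact r.Prime] (hx : orderOf x = r)
  (hirr : ∀ W : Submodule (ZMod q) V, (∀ w ∈ W, ρ x w ∈ W) → W = ⊥ ∨ W = ⊤)
  (hnr : Module.finrank (ZMod q) V < r)
include hρ hx hirr hnr

/-- An irreducible element of large prime order centralises every abelian subgroup it normalises. -/
theorem abelian_fixed (B : Subgroup G) (hB : ∀ a ∈ B, ∀ b ∈ B, a * b = b * a) (hxB : ∀ b ∈ B, x * b * x⁻¹ ∈ B) :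
    IsCyclic B ∧ ∀ b ∈ B, x * b = b * x := by
  classical
  obtain ⟨U, -, hU0, hUB, hUm⟩ := Cfsg.Agent.S0684.existsMinimal (A := B) (fun a v => ρ (a : G) v) (⊤ : Submodule (ZMod q) V)
    top_ne_bot
    (fun _ _ _ => Submodule.mem_top)
  let K : Subgroup G :=
    { carrier := {b | b ∈ B ∧ ∀ u ∈ U, ρ b u = u}
      one_mem' := ⟨one_mem B, fun u _ => by rw [map_one]; rfl⟩
      mul_mem' := fun {a b} ha hb => ⟨mul_mem ha.1 hb.1, fun u hu => by
        rw [map_mul, LinearEquiv.mul_apply, hb.2 u hu, ha.2 u hu]⟩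
      inv_mem' := fun {a} ha => ⟨inv_mem ha.1, fun u hu => by
        conv_lhs => rw [← ha.2 u hu]
        rw [← LinearEquiv.mul_apply, ← map_mul, inv_mul_cancel, map_one]; rfl⟩ }
  -- an element of `B` fixing a nonzero vector of `U` fixes all of it
  have hmin : ∀ b ∈ B, ∀ u ∈ U, u ≠ 0 → ρ b u = u → b ∈ K := by
    intro b hb u hu hu0 hfix
    let W : Submodule (ZMod q) V := U ⊓ LinearMap.ker ((ρ b).toLinearMap - 1)
    have hW : ∀ w, w ∈ W ↔ w ∈ U ∧ ρ b w = w := fun w => by
      rw [Submodule.mem_inf, LinearMap.mem_ker]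
      change _ ∧ ρ b w - w = 0 ↔ _
      rw [sub_eq_zero]
    rcases hUm W inf_le_left (fun a w hw => by
      obtain ⟨hw1, hw2⟩ := (hW w).mp hw
      refine (hW _).mpr ⟨hUB a w hw1, ?_⟩
      rw [← LinearEquiv.mul_apply, ← map_mul, hB b hb a a.2, map_mul, LinearEquiv.mul_apply, hw2]) with h | h
    · exact absurd ((Submodule.mem_bot (ZMod q)).mp (h ▸ (hW u).mpr ⟨hu, hfix⟩)) hu0
    · exact ⟨hb, fun w hw => ((hW w).mp (h.symm ▸ hw)).2⟩
  have hxBj : ∀ j : ℕ, ∀ b ∈ B, x ^ j * b * (x ^ j)⁻¹ ∈ B := fun j => by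
    induction j with
    | zero => intro b hb; simpa using hb
    | succ j ih =>
      intro b hb
      rw [show x ^ (j + 1) * b * (x ^ (j + 1))⁻¹ = x * (x ^ j * b * (x ^ j)⁻¹) * x⁻¹ by rw [pow_succ']; group]
      exact hxB _ (ih b hb)
  have hxr : x ^ r = 1 := hx ▸ pow_orderOf_eq_one x
  have hxBj' : ∀ j : ℕ, j ≤ r → ∀ b ∈ B, (x ^ j)⁻¹ * b * x ^ j ∈ B := fun j hj b hb => by
    have h1 : (x ^ j)⁻¹ = x ^ (r - j) := inv_eq_of_mul_eq_one_right (by rw [← pow_add, Nat.add_sub_cancel' hj, hxr])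
    have h2 := hxBj (r - j) b hb
    rwa [← h1, inv_inv] at h2
  let KK : ℕ → Subgroup G := fun j => K.map (MulAut.conj (x ^ j)).toMonoidHom
  have hKK : ∀ j b, b ∈ KK j ↔ (x ^ j)⁻¹ * b * x ^ j ∈ K := fun j b => by
    refine ⟨?_, fun h => ⟨_, h, ?_⟩⟩
    · rintro ⟨k, hk, rfl⟩
      change (x ^ j)⁻¹ * (x ^ j * k * (x ^ j)⁻¹) * x ^ j ∈ K
      rwa [show (x ^ j)⁻¹ * (x ^ j * k * (x ^ j)⁻¹) * x ^ j = k by group]
    · change x ^ j * ((x ^ j)⁻¹ * b * x ^ j) * (x ^ j)⁻¹ = b
      group
  by_cases hdist : ∀ i < r, ∀ j < r, KK i = KK j → i = j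
  · exfalso
    obtain ⟨u₀, hu₀, hu₀0⟩ := Submodule.exists_mem_ne_zero_of_ne_bot hU0
    have key : ∀ (s : Finset (Fin r)) (u : Fin r → V), (∀ i ∈ s, ∃ w ∈ U, w ≠ 0 ∧ u i = ρ (x ^ (i : ℕ)) w) →
        ∑ i ∈ s, u i = 0 → s = ∅ := by
      intro s
      induction s using Finset.strongInductionOn with
      | _ s ih =>
        intro u hu hsum
        by_contra hne
        obtain ⟨i₀, hi₀⟩ := Finset.nonempty_iff_ne_empty.mpr hne
        by_cases hex : ∃ i₁ ∈ s, i₁ ≠ i₀
        · obtain ⟨i₁, hi₁, h10⟩ := hex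
          have hcardK : ∀ i, Nat.card (KK i) = Nat.card K := fun i =>
            Nat.card_congr (Subgroup.equivMapOfInjective K _ (MulAut.conj (x ^ i)).injective).symm.toEquiv
          obtain ⟨b, hb1, hb0⟩ : ∃ b, b ∈ KK i₁ ∧ b ∉ KK i₀ := by
            by_contra hall
            push Not at hall
            refine h10 (Fin.ext (hdist _ i₁.2 _ i₀.2 (SetLike.coe_injective (Set.eq_of_subset_of_ncard_le hall ?_
              (Set.toFinite _)))))
            rw [← Nat.card_coe_set_eq, ← Nat.card_coe_set_eq]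
            exact le_of_eq ((hcardK _).trans (hcardK _).symm)
          have hbB : b ∈ B := by
            obtain ⟨k, hk, rfl⟩ := hb1
            exact hxBj _ k hk.1
          let u' : Fin r → V := fun i => ρ b (u i) - u i
          have hu' : ∀ i ∈ s, u' i ≠ 0 → ∃ w ∈ U, w ≠ 0 ∧ u' i = ρ (x ^ (i : ℕ)) w := by
            intro i hi h0
            obtain ⟨w, hw, -, he⟩ := hu i hi
            refine ⟨ρ ((x ^ (i : ℕ))⁻¹ * b * x ^ (i : ℕ)) w - w,
              U.sub_mem (hUB ⟨_, hxBj' _ i.2.le b hbB⟩ w hw) hw, fun e => h0 ?_, ?_⟩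
            · rw [sub_eq_zero] at e
              change ρ b (u i) - u i = 0
              rw [he, sub_eq_zero]
              conv_rhs => rw [← e]
              rw [← LinearEquiv.mul_apply, ← LinearEquiv.mul_apply, ← map_mul, ← map_mul]
              congr 2; group
            · change ρ b (u i) - u i = _
              rw [he, map_sub, ← LinearEquiv.mul_apply, ← LinearEquiv.mul_apply, ← map_mul, ← map_mul]
              congr 3; group
          have hi₁' : u' i₁ = 0 := by
            obtain ⟨w, hw, -, he⟩ := hu i₁ hi₁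
            change ρ b (u i₁) - u i₁ = 0
            rw [he, sub_eq_zero]
            conv_rhs => rw [← ((hKK _ _).mp hb1).2 w hw]
            rw [← LinearEquiv.mul_apply, ← LinearEquiv.mul_apply, ← map_mul, ← map_mul]
            congr 2; group
          have hi₀' : u' i₀ ≠ 0 := by
            obtain ⟨w, hw, hw0, he⟩ := hu i₀ hi₀
            refine fun h => hb0 ((hKK _ _).mpr (hmin _ (hxBj' _ i₀.2.le b hbB) w hw hw0 ?_))
            change ρ b (u i₀) - u i₀ = 0 at h
            rw [he, sub_eq_zero] at h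
            rw [map_mul, map_mul, LinearEquiv.mul_apply, LinearEquiv.mul_apply, h, ← LinearEquiv.mul_apply,
              ← map_mul, inv_mul_cancel, map_one]
            rfl
          have hnil := ih (s.filter fun i => u' i ≠ 0) (Finset.filter_ssubset.mpr ⟨i₁, hi₁, by simp [hi₁']⟩) u'
            (fun i hi => hu' i (Finset.mem_filter.mp hi).1 (Finset.mem_filter.mp hi).2)
            (by rw [Finset.sum_filter_ne_zero]; simp only [u']; rw [Finset.sum_sub_distrib, ← map_sum, hsum, map_zero,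
              sub_zero])
          exact Finset.eq_empty_iff_forall_notMem.mp hnil i₀ (Finset.mem_filter.mpr ⟨hi₀, hi₀'⟩)
        · push Not at hex
          rw [show s = {i₀} from Finset.eq_singleton_iff_unique_mem.mpr ⟨hi₀, hex⟩, Finset.sum_singleton] at hsum
          obtain ⟨w, -, hw0, he⟩ := hu i₀ hi₀
          exact hw0 ((ρ _).map_eq_zero_iff.mp (he ▸ hsum))
    have hli : LinearIndependent (ZMod q) fun i : Fin r => ρ (x ^ (i : ℕ)) u₀ := by
      rw [Fintype.linearIndependent_iff]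
      intro c hc i
      by_contra hci
      have := key (Finset.univ.filter fun j => c j ≠ 0) (fun j => c j • ρ (x ^ (j : ℕ)) u₀) (fun j hj => by
        rw [Finset.mem_filter] at hj
        exact ⟨c j • u₀, U.smul_mem _ hu₀, smul_ne_zero hj.2 hu₀0, (map_smul _ _ _).symm⟩) (by
        rw [Finset.sum_filter_of_ne (p := fun j => c j ≠ 0) (fun j _ hj hcj => hj (by simp [hcj]))]
        exact hc)
      exact Finset.eq_empty_iff_forall_notMem.mp this i (by simp [hci])
    have := hli.fintype_card_le_finrank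
    rw [Fintype.card_fin] at this
    omega
  -- all translates have the same kernel, so the kernel is trivial
  push Not at hdist
  obtain ⟨i, hi, j, hj, he, hij⟩ := hdist
  have hkey : ∀ a b : ℕ, a < b → b < r → KK a = KK b → ∀ k ∈ K, x * k * x⁻¹ ∈ K := by
    intro a b hab hbr he
    obtain ⟨d, rfl⟩ := Nat.exists_eq_add_of_lt hab
    have h1 : ∀ k ∈ K, x ^ (d + 1) * k * (x ^ (d + 1))⁻¹ ∈ K := by
      intro k hk
      have h2 : x ^ (a + d + 1) * k * (x ^ (a + d + 1))⁻¹ ∈ KK a := he ▸ ⟨k, hk, rfl⟩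
      have h3 := (hKK _ _).mp h2
      rw [show a + d + 1 = a + (d + 1) by ring, pow_add] at h3
      simpa [mul_assoc] using h3
    have hm : ∀ m : ℕ, ∀ k ∈ K, (x ^ (d + 1)) ^ m * k * ((x ^ (d + 1)) ^ m)⁻¹ ∈ K := fun m => by
      induction m with
      | zero => intro k hk; simpa using hk
      | succ m ih =>
        intro k hk
        rw [show (x ^ (d + 1)) ^ (m + 1) * k * ((x ^ (d + 1)) ^ (m + 1))⁻¹ =
          x ^ (d + 1) * ((x ^ (d + 1)) ^ m * k * ((x ^ (d + 1)) ^ m)⁻¹) * (x ^ (d + 1))⁻¹ by rw [pow_succ' (x ^ (d + 1))]; group]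
        exact h1 _ (ih k hk)
    have hcop : Nat.Coprime (d + 1) (orderOf x) := by
      rw [hx, Nat.coprime_comm, hr.out.coprime_iff_not_dvd]
      exact fun hd => absurd (Nat.le_of_dvd (by omega) hd) (by omega)
    obtain ⟨m, hm'⟩ := exists_pow_eq_self_of_coprime hcop
    intro k hk
    have := hm m k hk
    rwa [hm'] at this
  have hnorm : ∀ k ∈ K, x * k * x⁻¹ ∈ K := by
    rcases lt_or_gt_of_ne hij with h | h
    · exact hkey i j h hj he
    · exact hkey j i h hi he.symm
  have hKbot : ∀ k ∈ K, k = 1 := by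
    let W : Submodule (ZMod q) V := ⨅ k : K, LinearMap.ker ((ρ (k : G)).toLinearMap - 1)
    have hW : ∀ w, w ∈ W ↔ ∀ k ∈ K, ρ k w = w := fun w => by
      simp only [W, Submodule.mem_iInf, LinearMap.mem_ker]
      refine ⟨fun h k hk => ?_, fun h k => ?_⟩
      · have := h ⟨k, hk⟩
        change ρ k w - w = 0 at this
        exact sub_eq_zero.mp this
      · change ρ (k : G) w - w = 0
        exact sub_eq_zero.mpr (h k k.2)
    let Kx : K → K := fun k => ⟨x * k * x⁻¹, hnorm k k.2⟩
    have hKx : Function.Surjective Kx := Finite.injective_iff_surjective.mp fun a b e =>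
      Subtype.ext (by simpa [Kx] using congrArg Subtype.val e)
    rcases hirr W (fun w hw => (hW _).mpr fun k hk => by
      obtain ⟨⟨k', hk'⟩, e⟩ := hKx ⟨k, hk⟩
      have e' : x * k' * x⁻¹ = k := congrArg Subtype.val e
      rw [← e', ← LinearEquiv.mul_apply, ← map_mul, inv_mul_cancel_right, map_mul, LinearEquiv.mul_apply,
        (hW w).mp hw k' hk']) with h | h
    · obtain ⟨u, hu, hu0⟩ := Submodule.exists_mem_ne_zero_of_ne_bot hU0
      exact absurd ((Submodule.mem_bot (ZMod q)).mp (h ▸ (hW u).mpr fun k hk => hk.2 u hu)) hu0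
    · intro k hk
      refine hρ (LinearEquiv.ext fun w => ?_)
      rw [map_one]
      exact (hW w).mp (h ▸ Submodule.mem_top) k hk
  -- `B` acts faithfully and freely on `U`
  haveI : Nontrivial U := (Submodule.nontrivial_iff_ne_bot).mpr hU0
  let ψ : B →* (U ≃ₗ[ZMod q] U) := MonoidHom.mk' (fun b => LinearEquiv.ofBijective
    ((ρ (b : G)).toLinearMap.restrict (hUB b))
    (Finite.injective_iff_bijective.mp fun u w e => Subtype.ext ((ρ (b : G)).injective (congrArg Subtype.val e))))
    fun a b => LinearEquiv.ext fun u => Subtype.ext (by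
      change ρ ((a : G) * b) (u : V) = ρ (a : G) (ρ (b : G) (u : V))
      rw [map_mul]; rfl)
  have hψ : ∀ (b : B) (u : U), ((ψ b u : U) : V) = ρ (b : G) u := fun _ _ => rfl
  obtain ⟨hc, -⟩ := Cfsg.Agent.S0684.cyclicOfMinimal (V := U) (A := B) (fun a b => Subtype.ext (hB a a.2 b b.2)) ψ
    (fun b u hu hfix => Subtype.ext (hKbot _ (hmin b b.2 u u.2 (fun e => hu (Subtype.ext e))
      (by rw [← hψ, hfix]))))
    ⊤ top_ne_bot (fun _ _ _ => Submodule.mem_top) (fun W' _ hW' => by
      rcases hUm (W'.map U.subtype) (Submodule.map_subtype_le U W') (by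
        rintro b _ ⟨w, hw, rfl⟩
        exact ⟨ψ b w, hW' b w hw, rfl⟩) with h | h
      · left; exact Submodule.map_injective_of_injective U.injective_subtype (by rw [h, Submodule.map_bot])
      · right; exact Submodule.map_injective_of_injective U.injective_subtype (by rw [h, Submodule.map_subtype_top]))
  refine ⟨hc, ?_⟩
  obtain ⟨y, hy⟩ := hc.exists_generator
  -- the fixed space of a power of the generator is invariant under `x`
  obtain ⟨i, hi⟩ : ∃ i : ℕ, x * (y : G) * x⁻¹ = (y : G) ^ i := by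
    obtain ⟨k, -, hk⟩ := Finset.mem_image.mp (mem_zpowers_iff_mem_range_orderOf.mp (hy ⟨_, hxB y y.2⟩))
    exact ⟨k, (congrArg Subtype.val hk).symm⟩
  have hfree : ∀ (j : ℕ) (v : V), v ≠ 0 → ρ ((y : G) ^ j) v = v → (y : G) ^ j = 1 := by
    intro j v hv hfix
    set b := (y : G) ^ j with hb
    have hbi : x * b * x⁻¹ = b ^ i := by rw [hb, ← conj_pow, hi, ← pow_mul, ← pow_mul, mul_comm]
    have hpow : ∀ (m : ℕ) (w : V), ρ b w = w → ρ (b ^ m) w = w := fun m w hw => by
      induction m with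
      | zero => rw [pow_zero, map_one]; rfl
      | succ m ih => rw [pow_succ, map_mul, LinearEquiv.mul_apply, hw, ih]
    let W : Submodule (ZMod q) V := LinearMap.ker ((ρ b).toLinearMap - 1)
    have hW : ∀ w, w ∈ W ↔ ρ b w = w := fun w => by
      rw [LinearMap.mem_ker]; change ρ b w - w = 0 ↔ _; rw [sub_eq_zero]
    -- `x ^ (r - 1)` and hence `x` preserves the fixed space
    have hinv : ∀ w ∈ W, ρ x⁻¹ w ∈ W := fun w hw => (hW _).mpr (by
      have h : ρ (b * x⁻¹) w = ρ (x⁻¹ * b ^ i) w := by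
        rw [← hbi]; congr 2; group
      rw [map_mul, map_mul, LinearEquiv.mul_apply, LinearEquiv.mul_apply, hpow i w ((hW w).mp hw)] at h
      exact h)
    have hinvx : ∀ w ∈ W, ρ x w ∈ W := fun w hw => by
      have h : ∀ m : ℕ, ρ (x⁻¹ ^ m) w ∈ W := fun m => by
        induction m with
        | zero => rw [pow_zero, map_one]; exact hw
        | succ m ih => rw [pow_succ', map_mul, LinearEquiv.mul_apply]; exact hinv _ ih
      have h' := h (r - 1)
      rwa [inv_pow, inv_eq_of_mul_eq_one_right (show x ^ (r - 1) * x = 1 by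
        rw [← pow_succ, Nat.sub_add_cancel hr.out.one_le, hxr])] at h'
    rcases hirr W hinvx with h | h
    · exact absurd ((Submodule.mem_bot (ZMod q)).mp (h ▸ (hW v).mpr hfix)) hv
    · refine hρ (LinearEquiv.ext fun w => ?_)
      rw [map_one]
      exact (hW w).mp (h ▸ Submodule.mem_top)
  have hcom : x * (y : G) = y * x := CfsgLib.RegularLinear.fix_cyclic_of hx hfree hnr (by
    rw [hi]; exact Subgroup.pow_mem _ (Subgroup.mem_zpowers _) i)
  intro b hb
  obtain ⟨k, hk⟩ := Subgroup.mem_zpowers_iff.mp (hy ⟨b, hb⟩)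
  rw [show b = (y : G) ^ k by simpa using (congrArg Subtype.val hk).symm]
  exact ((show Commute x (y : G) from hcom).zpow_right k).eq

end Pivot

set_option maxHeartbeats 1200000 in
/-- The pivotal lemma: an element of order a power of a large prime which does not centralise an `s`-group. -/
theorem pivot (hρ : Function.Injective ρ) {y : G} {r k : ℕ} [hr : Fact r.Prime] (hy : orderOf y = r ^ (k + 1))
    (hirr : ∀ W : Submodule (ZMod q) V, (∀ w ∈ W, ρ (y ^ r ^ k) w ∈ W) → W = ⊥ ∨ W = ⊤)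
    (hnr : Module.finrank (ZMod q) V < r) {s : ℕ} [hs : Fact s.Prime] (hsr : s ≠ r) (P : Subgroup G) (hP : IsPGroup s P)
    (hPy : ∀ b ∈ P, y * b * y⁻¹ ∈ P) (hPx : ¬ ∀ b ∈ P, y ^ r ^ k * b = b * y ^ r ^ k) :
    r = Module.finrank (ZMod q) V + 1 ∧ k = 0 ∧ s = 2 ∧ ∃ m : ℕ, Module.finrank (ZMod q) V = s ^ m := by
  classical
  set x := y ^ r ^ k with hxy
  have hyr : y ^ r ^ (k + 1) = 1 := hy ▸ pow_orderOf_eq_one y
  have hx : orderOf x = r := by
    refine orderOf_eq_prime (by rw [hxy, ← pow_mul, ← pow_succ, hyr]) fun e => ?_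
    have := orderOf_dvd_of_pow_eq_one e
    rw [hy] at this
    exact absurd (Nat.le_of_dvd (pow_pos hr.out.pos k) this) (not_le.mpr (Nat.pow_lt_pow_succ hr.out.one_lt))
  -- a minimal subgroup that is not centralised
  obtain ⟨P₀, ⟨hP₀P, hP₀y, hP₀x⟩, hP₀m⟩ := WellFounded.has_min wellFounded_lt
    {Q : Subgroup G | Q ≤ P ∧ (∀ b ∈ Q, y * b * y⁻¹ ∈ Q) ∧ ¬ ∀ b ∈ Q, x * b = b * x} ⟨P, le_rfl, hPy, hPx⟩
  have hR : IsPGroup s P₀ := hP.to_le hP₀P
  let σy : MulAut P₀ := restrictConj P₀ y hP₀y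
  have hσpow : ∀ (j : ℕ) (b : P₀), (((σy ^ j) b : P₀) : G) = y ^ j * b * (y ^ j)⁻¹ := fun j => by
    induction j with
    | zero => intro b; simp
    | succ j ih =>
      intro b
      rw [pow_succ', MulAut.mul_apply, restrictConj_coe, ih, pow_succ']
      group
  let σ : MulAut P₀ := σy ^ r ^ k
  have hσ : ∀ b : P₀, ((σ b : P₀) : G) = x * b * x⁻¹ := fun b => hσpow _ b
  have hσfix : ∀ b : P₀, σ b = b ↔ x * (b : G) = b * x := fun b => by
    rw [← Subtype.coe_inj, hσ, mul_inv_eq_iff_eq_mul]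
  have hσσy : ∀ b, σ (σy b) = σy (σ b) := fun b => by
    change (σy ^ r ^ k * σy) b = (σy * σy ^ r ^ k) b
    rw [← pow_succ, ← pow_succ']
  have hsub : ∀ S : Subgroup P₀, S ≠ ⊤ → (∀ b ∈ S, σy b ∈ S) → ∀ b ∈ S, σ b = b := by
    intro S hS hSy b hb
    by_contra hne
    refine hP₀m (S.map P₀.subtype) ⟨(Subgroup.map_subtype_le S).trans hP₀P, ?_, fun h => hne ?_⟩ ?_
    · rintro _ ⟨c, hc, rfl⟩
      exact ⟨σy c, hSy c hc, rfl⟩
    · exact (hσfix b).mpr (h _ ⟨b, hb, rfl⟩)
    · refine lt_of_le_of_ne (Subgroup.map_subtype_le S) fun e => hS ?_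
      refine Subgroup.map_injective P₀.subtype_injective ?_
      rw [e, ← MonoidHom.range_eq_map, Subgroup.range_subtype]
  -- `P₀` is not abelian and its centre is cyclic
  have hxpow : ∀ (Q : Subgroup G), (∀ b ∈ Q, y * b * y⁻¹ ∈ Q) → ∀ b ∈ Q, x * b * x⁻¹ ∈ Q := by
    intro Q hQ
    suffices ∀ j : ℕ, ∀ b ∈ Q, y ^ j * b * (y ^ j)⁻¹ ∈ Q from this _
    intro j
    induction j with
    | zero => intro b hb; simpa using hb
    | succ j ih =>
      intro b hb
      rw [show y ^ (j + 1) * b * (y ^ (j + 1))⁻¹ = y * (y ^ j * b * (y ^ j)⁻¹) * y⁻¹ by rw [pow_succ']; group]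
      exact hQ _ (ih b hb)
  have hnonab : Subgroup.center P₀ ≠ ⊤ := fun htop => by
    refine hP₀x (abelian_fixed hρ hx hirr hnr P₀ (fun a ha b hb => ?_) (hxpow P₀ hP₀y)).2
    exact congrArg Subtype.val (Subgroup.mem_center_iff.mp
      (show (⟨b, hb⟩ : P₀) ∈ Subgroup.center P₀ from htop ▸ Subgroup.mem_top _) ⟨a, ha⟩)
  let Z : Subgroup G := (Subgroup.center P₀).map P₀.subtype
  have hZc : ∀ a ∈ Z, ∀ b ∈ Z, a * b = b * a := by
    rintro _ ⟨a, ha, rfl⟩ _ ⟨b, hb, rfl⟩
    exact congrArg Subtype.val (Subgroup.mem_center_iff.mp hb a)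
  have hσyc : ∀ b ∈ Subgroup.center P₀, σy b ∈ Subgroup.center P₀ := fun b hb =>
    Subgroup.mem_center_iff.mpr fun g => by
      obtain ⟨g, rfl⟩ := σy.surjective g
      rw [← map_mul, ← map_mul, Subgroup.mem_center_iff.mp hb g]
  have hZx : ∀ b ∈ Z, x * b * x⁻¹ ∈ Z := hxpow Z (by
    rintro _ ⟨c, hc, rfl⟩
    exact ⟨σy c, hσyc c hc, rfl⟩)
  haveI : IsCyclic Z := (abelian_fixed hρ hx hirr hnr Z hZc hZx).1
  haveI : IsCyclic (Subgroup.center P₀) := isCyclic_of_surjective _
    ((Subgroup.equivMapOfInjective (Subgroup.center P₀) P₀.subtype P₀.subtype_injective).symm.surjective)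
  have hcfix : ∀ b ∈ Subgroup.center P₀, σ b = b := hsub _ hnonab hσyc
  haveI : Nontrivial P₀ := by
    refine not_subsingleton_iff_nontrivial.mp fun _ => hnonab ?_
    exact Subgroup.eq_top_iff' _ |>.mpr fun g => Subgroup.mem_center_iff.mpr fun h => Subsingleton.elim _ _
  haveI : Group.IsNilpotent P₀ := hR.isNilpotent
  have hD : commutator P₀ < ⊤ := IsSolvable.commutator_lt_top_of_nontrivial P₀
  have hDfix : ∀ b ∈ commutator P₀, σ b = b := hsub _ hD.ne fun b hb => by
    have : (commutator P₀).map σy.toMonoidHom ≤ commutator P₀ := by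
      rw [commutator_def, Subgroup.map_commutator, Subgroup.map_top_of_surjective σy.toMonoidHom σy.surjective]
    exact this ⟨b, hb, rfl⟩
  have hσr : σ ^ r = 1 := by
    refine MulEquiv.ext fun b => Subtype.ext ?_
    change (((σy ^ r ^ k) ^ r) b : P₀).1 = _
    rw [← pow_mul, ← pow_succ, hσpow, hyr]; simp
  have hnofix : ∀ a b : P₀, σ a = a * b → σ b = b → b = 1 := by
    intro a b hab hb
    have h : ∀ j : ℕ, (σ ^ j) a = a * b ^ j := fun j => by
      induction j with
      | zero => simp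
      | succ j ih => rw [pow_succ', MulAut.mul_apply, ih, map_mul, map_pow, hab, hb, pow_succ', mul_assoc]
    have h1 := h r
    rw [hσr, MulAut.one_apply, left_eq_mul] at h1
    obtain ⟨j, hj⟩ := hR b
    exact orderOf_eq_one_iff.mp (Nat.eq_one_of_dvd_coprimes
      (((Nat.coprime_primes hr.out hs.out).mpr hsr.symm).pow_right j) (orderOf_dvd_of_pow_eq_one h1)
      (orderOf_dvd_of_pow_eq_one hj))
  have hgen : Subgroup.closure (Set.range fun b : P₀ => b⁻¹ * σ b) = ⊤ := by
    by_contra hne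
    have h1 := hsub _ hne fun b hb => by
      have : (Subgroup.closure (Set.range fun b : P₀ => b⁻¹ * σ b)).map σy.toMonoidHom ≤
          Subgroup.closure (Set.range fun b : P₀ => b⁻¹ * σ b) := by
        rw [MonoidHom.map_closure, Subgroup.closure_le]
        rintro _ ⟨_, ⟨c, rfl⟩, rfl⟩
        refine Subgroup.subset_closure ⟨σy c, ?_⟩
        simp [hσσy]
      exact this ⟨b, hb, rfl⟩
    refine hP₀x fun b hb => (hσfix ⟨b, hb⟩).mp ?_
    have h2 := hnofix ⟨b, hb⟩ (⟨b, hb⟩⁻¹ * σ ⟨b, hb⟩) (by rw [mul_inv_cancel_left])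
      (h1 _ (Subgroup.subset_closure ⟨_, rfl⟩))
    exact (inv_mul_eq_one.mp h2).symm
  have hcmem : ∀ a b : P₀, a * b * a⁻¹ * b⁻¹ ∈ commutator P₀ := fun a b => by
    rw [commutator_def]; exact Subgroup.commutator_mem_commutator (Subgroup.mem_top a) (Subgroup.mem_top b)
  have hcom : ∀ a b : P₀, a * b * a⁻¹ * b⁻¹ ∈ Subgroup.center P₀ := fun a b =>
    central_of_fixed σ hgen (hDfix _ (hcmem a b)) fun c => hDfix _ (hcmem _ c)
  obtain ⟨b, hb⟩ := index_sq hcom
  have hle := index_le_sq (ρ.comp P₀.subtype) hcom fun z hz v hv hfix => by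
    -- the fixed space of a central element is invariant under `x`
    have hzx : x * (z : G) = z * x := (hσfix z).mp (hcfix z hz)
    let W : Submodule (ZMod q) V := LinearMap.ker ((ρ (z : G)).toLinearMap - 1)
    have hW : ∀ w, w ∈ W ↔ ρ (z : G) w = w := fun w => by
      rw [LinearMap.mem_ker]; change ρ (z : G) w - w = 0 ↔ _; rw [sub_eq_zero]
    rcases hirr W (fun w hw => (hW _).mpr (by
      rw [← LinearEquiv.mul_apply, ← map_mul, ← hzx, map_mul, LinearEquiv.mul_apply, (hW w).mp hw])) with h | h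
    · exact absurd ((Submodule.mem_bot (ZMod q)).mp (h ▸ (hW v).mpr hfix)) hv
    · refine Subtype.ext (hρ (LinearEquiv.ext fun w => ?_))
      change ρ (z : G) w = ρ 1 w
      rw [map_one]
      exact (hW w).mp (h ▸ Submodule.mem_top)
  -- `⟨y⟩` acts freely outside the centre
  let H := Subgroup.zpowers y
  have hHP : ∀ h ∈ H, ∀ c ∈ P₀, h * c * h⁻¹ ∈ P₀ := by
    intro h hh c hc
    obtain ⟨j, -, rfl⟩ := Finset.mem_image.mp (mem_zpowers_iff_mem_range_orderOf.mp hh)
    have := ((σy ^ j) ⟨c, hc⟩).2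
    rwa [hσpow] at this
  let Ω := {c : P₀ // c ∉ Subgroup.center P₀}
  letI : MulAction H Ω :=
    { smul := fun h c => ⟨restrictConj P₀ (h : G) (hHP h h.2) c.1, fun hm => c.2 (Subgroup.mem_center_iff.mpr fun g => by
          refine (restrictConj P₀ (h : G) (hHP h h.2)).injective ?_
          rw [map_mul, map_mul]
          exact Subgroup.mem_center_iff.mp hm _)⟩
      one_smul := fun c => Subtype.ext (Subtype.ext (by
        change (1 : G) * _ * (1 : G)⁻¹ = _
        simp))
      mul_smul := fun g h c => Subtype.ext (Subtype.ext (by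
        change ((g : G) * h) * _ * ((g : G) * h)⁻¹ = (g : G) * ((h : G) * _ * (h : G)⁻¹) * (g : G)⁻¹
        group)) }
  have hstab : ∀ c : Ω, MulAction.stabilizer H c = ⊥ := by
    intro c
    rw [Subgroup.eq_bot_iff_forall]
    intro h hh
    by_contra hne
    have hcm : Commute (h : G) (c.1 : G) := by
      have e : (h : G) * (c.1 : G) * (h : G)⁻¹ = (c.1 : G) := congrArg (fun u : Ω => ((u.1 : P₀) : G)) hh
      exact mul_inv_eq_iff_eq_mul.mp e
    obtain ⟨j, -, hj⟩ := Finset.mem_image.mp (mem_zpowers_iff_mem_range_orderOf.mp h.2)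
    have hjd : ¬ r ^ (k + 1) ∣ j := fun hd => hne (Subtype.ext (by
      rw [← hj]; exact orderOf_dvd_iff_pow_eq_one.mp (hy ▸ hd)))
    obtain ⟨i, hi, hig⟩ := (Nat.dvd_prime_pow hr.out).mp (Nat.gcd_dvd_right j (r ^ (k + 1)))
    have hik : i ≤ k := by
      by_contra hlt
      rw [show i = k + 1 by omega] at hig
      exact hjd (hig ▸ Nat.gcd_dvd_left _ _)
    have hxc : Commute x (c.1 : G) := by
      have hgy : Commute (y ^ (r ^ i)) (c.1 : G) := by
        rw [← hig, ← zpow_natCast, Nat.gcd_eq_gcd_ab, zpow_add, zpow_mul, zpow_mul, zpow_natCast, zpow_natCast,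
          show y ^ r ^ (k + 1) = 1 from hyr, one_zpow, mul_one, hj]
        exact hcm.zpow_left _
      have hdd : r ^ i ∣ r ^ k := pow_dvd_pow r hik
      obtain ⟨e, he⟩ := hdd
      rw [hxy, he, pow_mul]
      exact hgy.pow_left e
    refine c.2 (central_of_fixed σ hgen ((hσfix c.1).mpr hxc.eq) fun d => hDfix _ (hcmem _ d))
  have hdvd : r ^ (k + 1) ∣ Nat.card Ω := by
    rw [Nat.card_congr (MulAction.selfEquivOrbitsQuotientProd hstab), Nat.card_prod, Nat.card_zpowers, hy]
    exact dvd_mul_left _ _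
  have hcardΩ : Nat.card Ω = Nat.card (Subgroup.center P₀) * (b * b - 1) := by
    rw [Nat.mul_sub_one, ← hb, Subgroup.card_mul_index]
    haveI : Fintype P₀ := Fintype.ofFinite P₀
    rw [Nat.card_eq_fintype_card, Nat.card_eq_fintype_card, Nat.card_eq_fintype_card]
    exact Fintype.card_subtype_compl _
  rw [hcardΩ] at hdvd
  obtain ⟨m, hm⟩ := (hR.to_subgroup (Subgroup.center P₀)).exists_card_eq
  rw [hm] at hdvd
  have hdvd' := (((Nat.coprime_primes hr.out hs.out).mpr hsr.symm).pow (k + 1) m).dvd_of_dvd_mul_left hdvd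
  set n := Module.finrank (ZMod q) V
  have hbn : b ≤ n := by
    rw [hb] at hle
    nlinarith
  have hb2 : 2 ≤ b := by
    by_contra hlt
    refine hnonab (Subgroup.index_eq_one.mp ?_)
    have : (Subgroup.center P₀).index ≠ 0 := Subgroup.index_ne_zero_of_finite
    rw [hb] at this ⊢
    rcases (show b = 0 ∨ b = 1 by omega) with h | h
    · exact absurd (by rw [h]) this
    · rw [h]
  have hbm : r ^ (k + 1) ∣ b + 1 := by
    have h1 : b * b - 1 = (b - 1) * (b + 1) := by
      rw [mul_comm (b - 1), ← Nat.sq_sub_sq b 1, one_pow, sq]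
    rw [h1] at hdvd'
    refine Nat.Coprime.dvd_of_dvd_mul_left (Nat.Coprime.pow_left _ (hr.out.coprime_iff_not_dvd.mpr fun h => ?_)) hdvd'
    have := Nat.le_of_dvd (by omega) h
    omega
  have hrb : r ^ (k + 1) ≤ b + 1 := Nat.le_of_dvd (by omega) hbm
  have hrk : r ≤ r ^ (k + 1) := Nat.le_self_pow (Nat.succ_ne_zero k) r
  refine ⟨by omega, ?_, ?_, ?_⟩
  · by_contra hk
    have : r * 2 ≤ r ^ (k + 1) := by
      rw [pow_succ']
      exact Nat.mul_le_mul_left r (hr.out.two_le.trans (Nat.le_self_pow hk r))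
    omega
  · have hbe : 2 ∣ b := by
      have hodd : Odd r := hr.out.odd_of_ne_two (by omega)
      obtain ⟨t, ht⟩ := hodd
      exact ⟨t, by omega⟩
    have h2 : 2 ∣ Nat.card P₀ := (hbe.trans ⟨b, hb⟩).trans (Subgroup.index_dvd_card _)
    obtain ⟨m', hm'⟩ := hR.exists_card_eq
    rw [hm'] at h2
    exact ((Nat.prime_dvd_prime_iff_eq Nat.prime_two hs.out).mp (Nat.prime_two.dvd_of_dvd_pow h2)).symm
  · have hbn' : b = n := by omega
    obtain ⟨m', hm'⟩ := hR.exists_card_eq
    obtain ⟨i, -, hi⟩ := (Nat.dvd_prime_pow hs.out).mp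
      (show b ∣ s ^ m' by rw [← hm']; exact (Dvd.intro b hb.symm).trans (Subgroup.index_dvd_card _))
    exact ⟨i, hbn' ▸ hi⟩

end CfsgLib.TransitiveLinear
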