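import Mathlib
import Cfsg.Agent.S2904
import Cfsg.Agent.Lib.PSolvable
import Cfsg.Agent.Lib.TransitiveLinear.Basic
import Cfsg.Agent.Lib.TransitiveLinear.Pivot

/-!
Solvable transitive linear groups of dimension at least three are semilinear, except in 81 points.
-/

set_option autoImplicit false
set_option linter.unusedSectionVars false

namespace CfsgLib.TransitiveLinear

open CfsgLib.RegularLinear (Semi)

variable {q : ℕ} [hq : Fact q.Prime] {V : Type*} [AddCommGroup V] [Module (ZMod q) V] [Finite V] [Nontrivial V]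
  {G : Type*} [Group G] [Finite G] {ρ : G →* (V ≃ₗ[ZMod q] V)}
variable (hρ : Function.Injective ρ) (htrans : ∀ v w : V, v ≠ 0 → w ≠ 0 → ∃ g : G, ρ g v = w)
include hρ htrans

/-- The number of non-zero vectors divides the order. -/
theorem sub_one_dvd_card : q ^ Module.finrank (ZMod q) V - 1 ∣ Nat.card G := by
  classical
  obtain ⟨v₀, hv₀⟩ := exists_ne (0 : V)
  let f : G ⧸ vecStab ρ v₀ → {v : V // v ≠ 0} := fun u => Quotient.liftOn' u
    (fun g => ⟨ρ g v₀, fun h => hv₀ ((ρ g).map_eq_zero_iff.mp h)⟩) fun a b h => by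
      rw [QuotientGroup.leftRel_apply] at h
      refine Subtype.ext ?_
      change ρ a v₀ = ρ b v₀
      conv_lhs => rw [← show ρ (a⁻¹ * b) v₀ = v₀ from h]
      rw [← LinearEquiv.mul_apply, ← map_mul, mul_inv_cancel_left]
  have hf : Function.Bijective f := by
    refine ⟨fun u w e => ?_, fun w => ?_⟩
    · induction u using Quotient.inductionOn' with
      | h a =>
        induction w using Quotient.inductionOn' with
        | h b =>
          refine QuotientGroup.eq.mpr ?_
          have e' : ρ a v₀ = ρ b v₀ := congrArg Subtype.val e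
          change ρ (a⁻¹ * b) v₀ = v₀
          rw [map_mul, LinearEquiv.mul_apply, ← e', ← LinearEquiv.mul_apply, ← map_mul, inv_mul_cancel, map_one]
          rfl
    · obtain ⟨g, hg⟩ := htrans v₀ w hv₀ w.2
      exact ⟨QuotientGroup.mk g, Subtype.ext hg⟩
  haveI : Fintype V := Fintype.ofFinite V
  have h := (vecStab ρ v₀).index_dvd_card
  rwa [Subgroup.index_eq_card, Nat.card_eq_of_bijective f hf, Nat.card_eq_fintype_card, Fintype.card_subtype_compl,
    Fintype.card_subtype_eq, ← Nat.card_eq_fintype_card, Module.natCard_eq_pow_finrank (K := ZMod q) (V := V),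
    Nat.card_zmod] at h

/-- An element of primitive prime order centralising every core gives a semilinear group. -/
theorem semi_of_centralizes [Group.IsSolvable G] {x : G} {r : ℕ} [hr : Fact r.Prime] (hx : orderOf x = r)
    (hprim : ∀ i, 1 ≤ i → i < Module.finrank (ZMod q) V → ¬ r ∣ q ^ i - 1)
    (hc : ∀ s : Nat.Primes, ∀ b ∈ Cfsg.pCore (s : ℕ) G, x * b = b * x) : Semi ρ := by
  let F := Cfsg.fittingSubgroup G
  have hF : F ≤ Subgroup.centralizer ({x} : Set G) := by
    change Cfsg.fittingSubgroup G ≤ _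
    rw [CfsgLib.fittingSubgroup_eq_iSup_pCore]
    exact iSup_le fun s => fun b hb => Subgroup.mem_centralizer_singleton_iff.mpr (hc s b hb).symm
  haveI : F.Normal := by
    change (Cfsg.fittingSubgroup G).Normal
    infer_instance
  let A := Subgroup.centralizer (F : Set G)
  have hA : ∀ a ∈ A, ∀ b ∈ A, a * b = b * a := fun a ha b hb =>
    (Subgroup.mem_centralizer_iff.mp ha b (CfsgLib.centralizer_fitting_le hb)).symm
  have hxA : x ∈ A := Subgroup.mem_centralizer_iff.mpr fun b hb => Subgroup.mem_centralizer_singleton_iff.mp (hF hb)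
  exact semi_of_comm hρ htrans A hA fun i hi hin hd =>
    hprim i hi hin (dvd_trans (hx ▸ Subgroup.orderOf_dvd_natCard A hxA) hd)

/-- A primitive prime different from `n + 1`, or dividing the order twice, gives a semilinear group. -/
theorem semi_or_special [Group.IsSolvable G] {r : ℕ} [hr : Fact r.Prime] (hnr : Module.finrank (ZMod q) V < r)
    (hrq : r ≠ q) (hrG : r ∣ Nat.card G) (hn : 1 ≤ Module.finrank (ZMod q) V)
    (hprim : ∀ i, 1 ≤ i → i < Module.finrank (ZMod q) V → ¬ r ∣ q ^ i - 1) :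
    Semi ρ ∨ (r = Module.finrank (ZMod q) V + 1 ∧ q ≠ 2 ∧ ¬ r ^ 2 ∣ Nat.card G ∧
      ∃ m : ℕ, Module.finrank (ZMod q) V = 2 ^ m) := by
  classical
  by_cases hsemi : Semi ρ
  · exact Or.inl hsemi
  right
  have hirr : ∀ x : G, orderOf x = r → ∀ W : Submodule (ZMod q) V, (∀ w ∈ W, ρ x w ∈ W) → W = ⊥ ∨ W = ⊤ :=
    fun x hx W hW => irreducible_of_primitive hρ hx hrq hprim W hW
  -- the `r`-core is trivial
  have hcore : Cfsg.pCore r G = ⊥ := by
    by_contra hne
    haveI : Nontrivial (Cfsg.pCore r G) := (Subgroup.nontrivial_iff_ne_bot _).mpr hne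
    haveI := (CfsgLib.isPGroup_pCore r (G := G)).center_nontrivial
    obtain ⟨j, hj⟩ := ((CfsgLib.isPGroup_pCore r (G := G)).to_subgroup (Subgroup.center (Cfsg.pCore r G))).exists_card_eq
    have hj0 : j ≠ 0 := fun e => by
      have := Finite.one_lt_card (α := Subgroup.center (Cfsg.pCore r G))
      rw [hj, e, pow_zero] at this
      omega
    refine hsemi (semi_of_comm hρ htrans ((Subgroup.center (Cfsg.pCore r G)).map (Cfsg.pCore r G).subtype) ?_
      fun i hi hin hd => hprim i hi hin (dvd_trans ?_ hd))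
    · rintro _ ⟨a, ha, rfl⟩ _ ⟨b, hb, rfl⟩
      exact congrArg Subtype.val (Subgroup.mem_center_iff.mp hb a)
    · rw [← Nat.card_congr (Subgroup.equivMapOfInjective _ _ (Cfsg.pCore r G).subtype_injective).toEquiv, hj]
      exact dvd_pow_self r hj0
  -- an element that does not centralise some core
  have hmove : ∀ x : G, orderOf x = r → ∃ s : Nat.Primes, (s : ℕ) ≠ r ∧ (s : ℕ) ≠ q ∧
      ¬ ∀ b ∈ Cfsg.pCore (s : ℕ) G, x * b = b * x := by
    intro x hx
    by_contra hall
    push Not at hall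
    refine hsemi (semi_of_centralizes hρ htrans hx hprim fun s b hb => ?_)
    by_cases hsr : (s : ℕ) = r
    · rw [hsr, hcore, Subgroup.mem_bot] at hb
      simp [hb]
    by_cases hsq : (s : ℕ) = q
    · rw [hsq, pCore_eq_bot hρ htrans, Subgroup.mem_bot] at hb
      simp [hb]
    exact hall s hsr hsq b hb
  obtain ⟨x, hx⟩ := exists_prime_orderOf_dvd_card' r hrG
  obtain ⟨s, hsr, hsq, hs⟩ := hmove x hx
  haveI : Fact (s : ℕ).Prime := ⟨s.2⟩
  obtain ⟨h1, -, h3, m, hm⟩ := pivot hρ (k := 0) (y := x) (by rw [hx, zero_add, pow_one])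
    (by rw [pow_zero, pow_one]; exact hirr x hx) hnr hsr (Cfsg.pCore (s : ℕ) G) (CfsgLib.isPGroup_pCore _)
    (fun b hb => Subgroup.Normal.conj_mem inferInstance b hb x) (by rwa [pow_zero, pow_one])
  refine ⟨h1, fun e => hsq (h3.trans e.symm), fun hr2 => ?_, m, h3 ▸ hm⟩
  obtain ⟨R⟩ := (inferInstance : Nonempty (Sylow r G))
  -- an element of order `r ^ 2` contradicts the pivotal lemma
  have hexp : ∀ y : G, orderOf y ≠ r ^ 2 := by
    intro y hy
    have hx' : orderOf (y ^ r) = r := by
      rw [orderOf_pow, hy, Nat.gcd_eq_right (dvd_pow_self r two_ne_zero), pow_two, Nat.mul_div_cancel _ hr.out.pos]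
    obtain ⟨s', hs'r, -, hs'⟩ := hmove _ hx'
    haveI : Fact (s' : ℕ).Prime := ⟨s'.2⟩
    obtain ⟨-, h, -⟩ := pivot hρ (k := 1) (y := y) hy (by rw [pow_one]; exact hirr _ hx') hnr hs'r
      (Cfsg.pCore (s' : ℕ) G) (CfsgLib.isPGroup_pCore _) (fun b hb => Subgroup.Normal.conj_mem inferInstance b hb y)
      (by rwa [pow_one])
    exact one_ne_zero h
  have hR1 : ∀ g ∈ (R : Subgroup G), g ^ r = 1 := by
    intro g hg
    obtain ⟨j, hj⟩ := R.isPGroup' ⟨g, hg⟩
    obtain ⟨i, -, hi⟩ := (Nat.dvd_prime_pow hr.out).mp (orderOf_dvd_of_pow_eq_one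
      (show g ^ r ^ j = 1 by simpa using congrArg Subtype.val hj))
    rcases Nat.lt_or_ge i 2 with h | h
    · exact orderOf_dvd_iff_pow_eq_one.mp (hi ▸ by interval_cases i <;> simp)
    · exfalso
      refine hexp (g ^ r ^ (i - 2)) ?_
      rw [orderOf_pow, hi, Nat.gcd_eq_right (pow_dvd_pow r (Nat.sub_le i 2)), Nat.pow_div (Nat.sub_le i 2) hr.out.pos,
        show i - (i - 2) = 2 by omega]
  have hRc : r ^ 2 ≤ Nat.card (R : Subgroup G) :=
    Nat.le_of_dvd Nat.card_pos (R.pow_dvd_card_of_pow_dvd_card hr2)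
  haveI : Nontrivial (R : Subgroup G) := by
    refine Finite.one_lt_card_iff_nontrivial.mp ?_
    have := hr.out.two_le
    nlinarith
  haveI := R.isPGroup'.center_nontrivial
  obtain ⟨z, hz⟩ := exists_ne (1 : Subgroup.center (R : Subgroup G))
  have hzo : orderOf ((z : (R : Subgroup G)) : G) = r :=
    orderOf_eq_prime (hR1 _ (z : (R : Subgroup G)).2) fun e => hz (Subtype.ext (Subtype.ext e))
  obtain ⟨w, hw, hwz⟩ : ∃ w ∈ (R : Subgroup G), w ∉ Subgroup.zpowers ((z : (R : Subgroup G)) : G) := by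
    by_contra hall
    push Not at hall
    have := Subgroup.card_le_of_le hall
    rw [Nat.card_zpowers, hzo] at this
    have := hr.out.two_le
    nlinarith
  set z' : G := ((z : (R : Subgroup G)) : G)
  have hzw : z' * w = w * z' := (congrArg Subtype.val (Subgroup.mem_center_iff.mp z.2 ⟨w, hw⟩)).symm
  let B := Subgroup.closure ({z', w} : Set G)
  have hB : ∀ a ∈ B, ∀ b ∈ B, a * b = b * a := by
    have hle : B ≤ Subgroup.centralizer (B : Set G) := by
      rw [Subgroup.centralizer_closure, Subgroup.closure_le]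
      intro a ha b hb
      rcases ha with rfl | rfl <;> rcases hb with rfl | rfl
      · rfl
      · exact hzw.symm
      · exact hzw
      · rfl
    exact fun a ha b hb => (Subgroup.mem_centralizer_iff.mp (hle hb) a ha)
  have hzB : z' ∈ B := Subgroup.subset_closure (Set.mem_insert _ _)
  obtain ⟨hBc, -⟩ := abelian_fixed hρ hzo (hirr _ hzo) hnr B hB fun b hb =>
    mul_mem (mul_mem hzB hb) (inv_mem hzB)
  obtain ⟨g, hg⟩ := hBc.exists_generator
  have hle : B ≤ Subgroup.zpowers (g : G) := fun b hb => by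
    obtain ⟨j, hj⟩ := Subgroup.mem_zpowers_iff.mp (hg ⟨b, hb⟩)
    exact Subgroup.mem_zpowers_iff.mpr ⟨j, by simpa using congrArg Subtype.val hj⟩
  have hgR : (g : G) ∈ (R : Subgroup G) := (Subgroup.closure_le _).mpr
    (by rintro a (rfl | rfl) <;> [exact (z : (R : Subgroup G)).2; exact hw]) g.2
  have hgo : orderOf (g : G) ∣ r := orderOf_dvd_of_pow_eq_one (hR1 _ hgR)
  have hzg : Subgroup.zpowers z' = Subgroup.zpowers (g : G) := by
    refine Subgroup.eq_of_le_of_card_ge (Subgroup.zpowers_le.mpr (hle hzB)) ?_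
    rw [Nat.card_zpowers, Nat.card_zpowers, hzo]
    exact Nat.le_of_dvd hr.out.pos hgo
  exact hwz (hzg ▸ hle (Subgroup.subset_closure (Set.mem_insert_of_mem _ rfl)))

/-- Six-dimensional binary spaces. -/
theorem semi_two_six [Group.IsSolvable G] (h2 : q = 2) (hn : Module.finrank (ZMod q) V = 6) : Semi ρ := by
  classical
  subst h2
  haveI : Fintype V := Fintype.ofFinite V
  have hdvd : Nat.card G ∣ 20158709760 := by
    haveI : Finite (V ≃ₗ[ZMod 2] V) := Finite.of_injective (fun e => (e : V → V)) DFunLike.coe_injective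
    have e1 : (V ≃ₗ[ZMod 2] V) ≃* GL (Fin 6) (ZMod 2) :=
      ((LinearMap.GeneralLinearGroup.generalLinearEquiv (ZMod 2) V).symm.trans
        (Units.mapEquiv (LinearEquiv.conjAlgEquiv (ZMod 2) (LinearEquiv.ofFinrankEq V (Fin 6 → ZMod 2)
          (by rw [hn, Module.finrank_fin_fun]))).toMulEquiv)).trans
        (Units.mapEquiv LinearMap.toMatrixAlgEquiv'.toMulEquiv)
    have h := Subgroup.card_dvd_of_injective ρ hρ
    rwa [Nat.card_congr e1.toEquiv, Matrix.card_GL_field, Fin.prod_univ_six, ZMod.card] at h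
  obtain hsemi | hno := Classical.em (∃ A : Subgroup G, A.Normal ∧ (∀ a ∈ A, ∀ b ∈ A, a * b = b * a) ∧
      ∀ i, 1 ≤ i → i < 6 → ¬ Nat.card A ∣ 2 ^ i - 1)
  · obtain ⟨A, hAn, hA, h⟩ := hsemi
    exact semi_of_comm hρ htrans A hA fun i hi hin => h i hi (hn ▸ hin)
  exfalso
  push Not at hno
  haveI := Fact.mk (show Nat.Prime 7 by norm_num)
  have h63 : 63 ∣ Nat.card G := by
    have := sub_one_dvd_card hρ htrans
    rwa [hn] at this
  obtain ⟨x, hx⟩ := exists_prime_orderOf_dvd_card' 7 (dvd_trans (by norm_num : 7 ∣ 63) h63)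
  have hx7 : x ^ 7 = 1 := hx ▸ pow_orderOf_eq_one x
  -- `x` centralises every core
  have hcent : ∀ s : Nat.Primes, ∀ b ∈ Cfsg.pCore (s : ℕ) G, x * b = b * x := by
    intro s
    haveI : Fact (s : ℕ).Prime := ⟨s.2⟩
    set P := Cfsg.pCore (s : ℕ) G
    haveI : P.Normal := by infer_instance
    obtain ⟨e, he⟩ := (CfsgLib.isPGroup_pCore (s : ℕ) (G := G)).exists_card_eq
    have hse : (s : ℕ) ^ e ∣ 20158709760 := he ▸ P.card_subgroup_dvd_card.trans hdvd
    by_cases he0 : e = 0
    · intro b hb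
      rw [Subgroup.eq_bot_of_card_eq P (by rw [he, he0, pow_zero]), Subgroup.mem_bot] at hb
      simp [hb]
    by_cases hs2 : (s : ℕ) = 2
    · intro b hb
      have hbot : P = ⊥ := by
        change Cfsg.pCore (s : ℕ) G = ⊥
        rw [hs2]; exact pCore_eq_bot hρ htrans
      rw [hbot, Subgroup.mem_bot] at hb
      simp [hb]
    have hsdvd : (s : ℕ) ∣ 2 ^ 15 * 3 ^ 4 * 5 * 7 ^ 2 * 31 := dvd_trans (dvd_pow_self _ he0) (by norm_num; exact hse)
    have hcases : (s : ℕ) = 3 ∨ (s : ℕ) = 5 ∨ (s : ℕ) = 7 ∨ (s : ℕ) = 31 := by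
      have hp := s.2
      have hpr : ∀ {a k : ℕ}, a.Prime → (s : ℕ) ∣ a ^ k → (s : ℕ) = a := fun ha h =>
        (Nat.prime_dvd_prime_iff_eq hp ha).mp (hp.dvd_of_dvd_pow h)
      rcases hp.dvd_mul.mp hsdvd with h | h
      · rcases hp.dvd_mul.mp h with h | h
        · rcases hp.dvd_mul.mp h with h | h
          · rcases hp.dvd_mul.mp h with h | h
            · exact absurd (hpr Nat.prime_two h) hs2
            · exact Or.inl (hpr Nat.prime_three h)
          · exact Or.inr (Or.inl ((Nat.prime_dvd_prime_iff_eq hp Nat.prime_five).mp h))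
        · exact Or.inr (Or.inr (Or.inl (hpr (by norm_num) h)))
      · exact Or.inr (Or.inr (Or.inr ((Nat.prime_dvd_prime_iff_eq hp (by norm_num)).mp h)))
    -- the number of fixed points of `x` on the core
    let σ : MulAut P := restrictConj P x fun b hb => Subgroup.Normal.conj_mem inferInstance b hb x
    have hσ7 : IsPGroup 7 (Subgroup.zpowers σ) := by
      have h7 : orderOf σ ∣ 7 := orderOf_dvd_of_pow_eq_one (MulEquiv.ext fun b => Subtype.ext (by
        have hp : ∀ j : ℕ, (((σ ^ j) b : P) : G) = x ^ j * b * (x ^ j)⁻¹ := fun j => by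
          induction j with
          | zero => simp
          | succ j ih => rw [pow_succ', MulAut.mul_apply, restrictConj_coe, ih, pow_succ']; group
        rw [hp, hx7]; simp))
      obtain ⟨j, -, hj⟩ := (Nat.dvd_prime_pow (show Nat.Prime 7 by norm_num)).mp
        (show orderOf σ ∣ 7 ^ 1 by rwa [pow_one])
      exact IsPGroup.of_card (n := j) (by rw [Nat.card_zpowers, hj])
    let Fx : Subgroup P := Subgroup.centralizer ({x} : Set G) |>.subgroupOf P
    have hfix : Nat.card P ≡ Nat.card Fx [MOD 7] := by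
      have h := hσ7.card_modEq_card_fixedPoints P
      have h2 : Nat.card (MulAction.fixedPoints (Subgroup.zpowers σ) P) = Nat.card Fx := by
        refine Nat.card_congr (Equiv.subtypeEquivRight fun b => ?_)
        rw [Subgroup.mem_subgroupOf, Subgroup.mem_centralizer_singleton_iff]
        constructor
        · intro hb
          have := congrArg Subtype.val (hb ⟨σ, Subgroup.mem_zpowers σ⟩)
          change x * (b : G) * x⁻¹ = b at this
          exact (mul_inv_eq_iff_eq_mul.mp this).symm
        · rintro hb ⟨g, hg⟩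
          have hσb : σ b = b := Subtype.ext (mul_inv_eq_iff_eq_mul.mpr hb.symm)
          have : σ ∈ MulAction.stabilizer (MulAut P) b := hσb
          exact Subgroup.zpowers_le.mpr this hg
      rwa [h2] at h
    have htop : Nat.card Fx = Nat.card P → ∀ b ∈ P, x * b = b * x := fun h b hb => by
      have := Subgroup.eq_top_of_card_eq Fx h
      have hb' : (⟨b, hb⟩ : P) ∈ Fx := this ▸ Subgroup.mem_top _
      exact (Subgroup.mem_centralizer_singleton_iff.mp (Subgroup.mem_subgroupOf.mp hb')).symm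
    by_cases hs7 : (s : ℕ) = 7
    · have he2 : e ≤ 2 := by
        by_contra hlt
        have := (pow_dvd_pow (7 : ℕ) (show 3 ≤ e by omega)).trans (hs7 ▸ hse)
        norm_num at this
      intro b hb
      -- `x` and the core generate a group of order dividing `49`
      have hPJ : IsPGroup 7 (P ⊔ Subgroup.zpowers x : Subgroup G) := by
        refine IsPGroup.to_sup_of_normal_left (hs7 ▸ CfsgLib.isPGroup_pCore (s : ℕ) (G := G)) ?_
        exact IsPGroup.of_card (n := 1) (by rw [Nat.card_zpowers, hx, pow_one])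
      obtain ⟨j, hj⟩ := hPJ.exists_card_eq
      have hj2 : j ≤ 2 := by
        by_contra hlt
        have := (pow_dvd_pow (7 : ℕ) (show 3 ≤ j by omega)).trans
          (hj ▸ (P ⊔ Subgroup.zpowers x).card_subgroup_dvd_card.trans hdvd)
        norm_num at this
      have hcomm : ∀ a c : (P ⊔ Subgroup.zpowers x : Subgroup G), a * c = c * a := by
        rcases (show j = 0 ∨ j = 1 ∨ j = 2 by omega) with rfl | rfl | rfl
        · intro a c
          haveI : Subsingleton (P ⊔ Subgroup.zpowers x : Subgroup G) := (Nat.card_eq_one_iff_unique.mp (by simpa using hj)).1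
          exact Subsingleton.elim _ _
        · haveI : IsCyclic (P ⊔ Subgroup.zpowers x : Subgroup G) := isCyclic_of_prime_card (by simpa using hj)
          exact IsCyclic.commGroup.mul_comm
        · exact IsPGroup.commutative_of_card_eq_prime_sq hj
      exact congrArg Subtype.val (hcomm ⟨x, Subgroup.mem_sup_right (Subgroup.mem_zpowers x)⟩ ⟨b, Subgroup.mem_sup_left hb⟩)
    obtain ⟨d, hd, hd'⟩ := (Nat.dvd_prime_pow s.2).mp (he ▸ Fx.card_subgroup_dvd_card)
    refine htop ?_
    rw [he, hd'] at hfix ⊢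
    rcases hcases with h | h | h | h
    · rw [h] at hfix hse ⊢
      have he4 : e ≤ 4 := by
        by_contra hlt
        have := (pow_dvd_pow (3 : ℕ) (show 5 ≤ e by omega)).trans hse
        norm_num at this
      interval_cases e <;> interval_cases d <;> simp_all [Nat.ModEq]
    · rw [h] at hfix hse ⊢
      have he1 : e ≤ 1 := by
        by_contra hlt
        have := (pow_dvd_pow (5 : ℕ) (show 2 ≤ e by omega)).trans hse
        norm_num at this
      interval_cases e <;> interval_cases d <;> simp_all [Nat.ModEq]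
    · exact absurd h hs7
    · rw [h] at hfix hse ⊢
      have he1 : e ≤ 1 := by
        by_contra hlt
        have := (pow_dvd_pow (31 : ℕ) (show 2 ≤ e by omega)).trans hse
        norm_num at this
      interval_cases e <;> interval_cases d <;> simp_all [Nat.ModEq]
  -- hence the centralizer of the Fitting subgroup is a group of order seven equal to it
  set F := Cfsg.fittingSubgroup G
  haveI : F.Normal := by
    change (Cfsg.fittingSubgroup G).Normal
    infer_instance
  have hF : F ≤ Subgroup.centralizer ({x} : Set G) := by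
    change Cfsg.fittingSubgroup G ≤ _
    rw [CfsgLib.fittingSubgroup_eq_iSup_pCore]
    exact iSup_le fun s => fun b hb => Subgroup.mem_centralizer_singleton_iff.mpr (hcent s b hb).symm
  set A := Subgroup.centralizer (F : Set G)
  have hAF : A ≤ F := CfsgLib.centralizer_fitting_le
  have hA : ∀ a ∈ A, ∀ b ∈ A, a * b = b * a := fun a ha b hb =>
    (Subgroup.mem_centralizer_iff.mp ha b (hAF hb)).symm
  have hxA : x ∈ A := Subgroup.mem_centralizer_iff.mpr fun b hb => Subgroup.mem_centralizer_singleton_iff.mp (hF hb)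
  have h7A : 7 ∣ Nat.card A := hx ▸ Subgroup.orderOf_dvd_natCard A hxA
  have hA7 : Nat.card A = 7 := by
    obtain ⟨i, hi1, hi6, hi⟩ := hno A inferInstance hA
    have h7 := h7A.trans hi
    obtain rfl : i = 3 := by interval_cases i <;> first | rfl | (exfalso; revert h7; norm_num)
    norm_num at hi
    exact ((Nat.dvd_prime (by norm_num)).mp hi).resolve_left (fun e => by rw [e] at h7A; norm_num at h7A)
  -- every core lies in `A`
  have hcA : ∀ s : Nat.Primes, Cfsg.pCore (s : ℕ) G ≤ A := by
    intro s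
    haveI : Fact (s : ℕ).Prime := ⟨s.2⟩
    set P := Cfsg.pCore (s : ℕ) G
    by_cases hP : P = ⊥
    · rw [hP]; exact bot_le
    haveI : Nontrivial P := (Subgroup.nontrivial_iff_ne_bot P).mpr hP
    haveI := (CfsgLib.isPGroup_pCore (s : ℕ) (G := G)).center_nontrivial
    obtain ⟨z, hz⟩ := exists_prime_orderOf_dvd_card' (G := Subgroup.center P) (s : ℕ) (by
      obtain ⟨j, hj⟩ := ((CfsgLib.isPGroup_pCore (s : ℕ) (G := G)).to_subgroup (Subgroup.center P)).exists_card_eq
      refine hj ▸ dvd_pow_self _ fun e => ?_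
      have := Finite.one_lt_card (α := Subgroup.center P)
      rw [hj, e, pow_zero] at this
      omega)
    have hzF : F ≤ Subgroup.centralizer ({((z : P) : G)} : Set G) := by
      change Cfsg.fittingSubgroup G ≤ _
      rw [CfsgLib.fittingSubgroup_eq_iSup_pCore]
      refine iSup_le fun t => fun b hb => Subgroup.mem_centralizer_singleton_iff.mpr ?_
      by_cases hts : t = s
      · subst hts
        exact congrArg Subtype.val (Subgroup.mem_center_iff.mp z.2 ⟨b, hb⟩)
      · haveI : Fact (t : ℕ).Prime := ⟨t.2⟩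
        exact (Subgroup.commute_of_normal_of_disjoint _ _ inferInstance inferInstance
          (IsPGroup.disjoint_of_ne (t : ℕ) (s : ℕ) (fun e => hts (Subtype.ext e)) _ _
            (CfsgLib.isPGroup_pCore _) (CfsgLib.isPGroup_pCore _)) b _ hb (z : P).2).eq
    have hzA : ((z : P) : G) ∈ A :=
      Subgroup.mem_centralizer_iff.mpr fun b hb => Subgroup.mem_centralizer_singleton_iff.mp (hzF hb)
    have hzo : (s : ℕ) ∣ 7 := by
      have := Subgroup.orderOf_dvd_natCard A hzA
      rwa [Subgroup.orderOf_coe, Subgroup.orderOf_coe, hz, hA7] at this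
    have hs7 : (s : ℕ) = 7 := (Nat.prime_dvd_prime_iff_eq s.2 (by norm_num)).mp hzo
    obtain ⟨e, he⟩ := (CfsgLib.isPGroup_pCore (s : ℕ) (G := G)).exists_card_eq
    have he2 : e ≤ 2 := by
      by_contra hlt
      have := (pow_dvd_pow (7 : ℕ) (show 3 ≤ e by omega)).trans
        (hs7 ▸ he ▸ P.card_subgroup_dvd_card.trans hdvd)
      norm_num at this
    have hcomm : ∀ a c : P, a * c = c * a := by
      rcases (show e = 0 ∨ e = 1 ∨ e = 2 by omega) with rfl | rfl | rfl
      · intro a c
        haveI : Subsingleton P := (Nat.card_eq_one_iff_unique.mp (by simpa using he)).1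
        exact Subsingleton.elim _ _
      · haveI : IsCyclic P := isCyclic_of_prime_card (by simpa using he)
        exact IsCyclic.commGroup.mul_comm
      · exact IsPGroup.commutative_of_card_eq_prime_sq he
    intro b hb
    refine Subgroup.mem_centralizer_iff.mpr fun c hc => ?_
    have : F ≤ Subgroup.centralizer ({b} : Set G) := by
      change Cfsg.fittingSubgroup G ≤ _
      rw [CfsgLib.fittingSubgroup_eq_iSup_pCore]
      refine iSup_le fun t => fun c hc => Subgroup.mem_centralizer_singleton_iff.mpr ?_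
      by_cases hts : t = s
      · subst hts
        exact congrArg Subtype.val (hcomm ⟨c, hc⟩ ⟨b, hb⟩)
      · haveI : Fact (t : ℕ).Prime := ⟨t.2⟩
        exact (Subgroup.commute_of_normal_of_disjoint _ _ inferInstance inferInstance
          (IsPGroup.disjoint_of_ne (t : ℕ) (s : ℕ) (fun e => hts (Subtype.ext e)) _ _
            (CfsgLib.isPGroup_pCore _) (CfsgLib.isPGroup_pCore _)) c b hc hb).eq
    exact Subgroup.mem_centralizer_singleton_iff.mp (this hc)
  have hFA : F = A := le_antisymm (by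
    change Cfsg.fittingSubgroup G ≤ A
    rw [CfsgLib.fittingSubgroup_eq_iSup_pCore]
    exact iSup_le hcA) hAF
  haveI : IsCyclic A := isCyclic_of_prime_card hA7
  have hker : (MulAut.conjNormal (H := A) : G →* MulAut A).ker ≤ A := by
    intro g hg
    refine Subgroup.mem_centralizer_iff.mpr fun b hb => ?_
    have := congrArg Subtype.val (MulEquiv.congr_fun hg ⟨b, hFA ▸ hb⟩)
    rw [MulAut.conjNormal_apply, MulAut.one_apply] at this
    exact (mul_inv_eq_iff_eq_mul.mp this).symm
  have h6 : (MulAut.conjNormal (H := A) : G →* MulAut A).ker.index ∣ 6 := by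
    rw [Subgroup.index_ker]
    refine (Subgroup.card_subgroup_dvd_card _).trans ?_
    rw [IsCyclic.card_mulAut, hA7, Nat.totient_prime (by norm_num)]
  have hdiv : Nat.card G ∣ 42 := by
    rw [← (MulAut.conjNormal (H := A) : G →* MulAut A).ker.card_mul_index]
    exact Nat.mul_dvd_mul (hA7 ▸ Subgroup.card_dvd_of_le hker) h6
  have := h63.trans hdiv
  norm_num at this

/-- Dimension at least three. -/
theorem semi_or_81 [Group.IsSolvable G] (hn : 3 ≤ Module.finrank (ZMod q) V) : Semi ρ ∨ Nat.card V = 81 := by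
  classical
  have hG := sub_one_dvd_card hρ htrans
  have hV : Nat.card V = q ^ Module.finrank (ZMod q) V := by
    rw [Module.natCard_eq_pow_finrank (K := ZMod q), Nat.card_zmod]
  generalize hn' : Module.finrank (ZMod q) V = n at hn hG hV
  by_cases h26 : q = 2 ∧ n = 6
  · exact Or.inl (semi_two_six hρ htrans h26.1 (hn'.trans h26.2))
  by_cases hsemi : Semi ρ
  · exact Or.inl hsemi
  right
  -- every prime `r` for which `q` has order `n` is `n + 1`
  have key : ∀ r : ℕ, r.Prime → r ∣ q ^ n - 1 → (∀ k, 0 < k → k < n → ¬ r ∣ q ^ k - 1) →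
      r = n + 1 ∧ q ≠ 2 ∧ ¬ r ^ 2 ∣ Nat.card G ∧ ∃ m : ℕ, n = 2 ^ m := by
    intro r hr hrd hprim
    haveI := Fact.mk hr
    have hrq : r ≠ q := by
      rintro rfl
      have h2 : r ∣ r ^ n := dvd_pow_self r (by omega)
      have h3 := Nat.dvd_sub h2 hrd
      rw [Nat.sub_sub_self (Nat.one_le_pow _ _ hr.pos)] at h3
      exact hr.one_lt.ne' (Nat.dvd_one.mp h3)
    have h0 : (q : ZMod r) ≠ 0 := fun h =>
      hrq ((Nat.prime_dvd_prime_iff_eq hr hq.out).mp ((ZMod.natCast_eq_zero_iff _ _).mp h))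
    have hdvd : ∀ k, r ∣ q ^ k - 1 ↔ (q : ZMod r) ^ k = 1 := fun k => by
      rw [← ZMod.natCast_eq_zero_iff, Nat.cast_sub (Nat.one_le_pow _ _ hq.out.pos), Nat.cast_pow, Nat.cast_one,
        sub_eq_zero]
    set d := orderOf (q : ZMod r)
    have hd1 : d ∣ n := orderOf_dvd_of_pow_eq_one ((hdvd n).mp hrd)
    have hd2 : d ∣ r - 1 := orderOf_dvd_of_pow_eq_one (ZMod.pow_card_sub_one_eq_one h0)
    have hd0 : 0 < d := Nat.pos_of_dvd_of_pos hd2 (by have := hr.two_le; omega)
    have hdn : d = n := by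
      refine le_antisymm (Nat.le_of_dvd (by omega) hd1) (le_of_not_gt fun hlt => ?_)
      exact hprim d hd0 hlt ((hdvd d).mpr (pow_orderOf_eq_one _))
    have := Nat.le_of_dvd (by have := hr.two_le; omega) hd2
    rcases semi_or_special hρ htrans (r := r) (by omega) hrq (hrd.trans hG) (by omega)
      (fun i hi hin => hprim i hi (by omega)) with h | h
    · exact absurd h hsemi
    · rwa [hn'] at h
  obtain ⟨r, hr, hrd, hprim⟩ := Cfsg.Agent.S2904.result q n hq.out.one_lt (by omega) h26 (by omega)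
  obtain ⟨hr1, hq2, hr2, m, hm⟩ := key r hr hrd hprim
  have hm2 : 2 ≤ m := by
    by_contra hlt
    interval_cases m <;> omega
  obtain ⟨j, rfl⟩ : ∃ j, m = j + 2 := ⟨m - 2, by omega⟩
  set h := 2 ^ (j + 1) with hh
  have hn2 : n = 2 * h := by rw [hm, hh, ← pow_succ']
  have hoddq : Odd q := hq.out.odd_of_ne_two hq2
  -- the odd prime divisors of `q ^ h + 1` are primitive
  have hfac : q ^ n - 1 = (q ^ h + 1) * (q ^ h - 1) := by
    rw [hn2, mul_comm 2 h, pow_mul, ← Nat.sq_sub_sq, one_pow]
  have hodd : ∀ p : ℕ, p.Prime → p ∣ q ^ h + 1 → p ≠ 2 → p = r := by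
    intro p hp hpd hp2
    haveI := Fact.mk hp
    refine ((key p hp (hfac ▸ hpd.mul_right _) fun k hk0 hkn hk => ?_).1).trans hr1.symm
    have hdvd : ∀ k, p ∣ q ^ k - 1 ↔ (q : ZMod p) ^ k = 1 := fun k => by
      rw [← ZMod.natCast_eq_zero_iff, Nat.cast_sub (Nat.one_le_pow _ _ hq.out.pos), Nat.cast_pow, Nat.cast_one,
        sub_eq_zero]
    have hm1 : (q : ZMod p) ^ h = -1 := by
      rw [eq_neg_iff_add_eq_zero, ← Nat.cast_pow, ← Nat.cast_one, ← Nat.cast_add, ZMod.natCast_eq_zero_iff]
      exact hpd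
    have hne : (q : ZMod p) ^ h ≠ 1 := by
      rw [hm1]
      haveI : Fact (2 < p) := ⟨lt_of_le_of_ne hp.two_le (Ne.symm hp2)⟩
      exact ZMod.neg_one_ne_one
    have hn1 : (q : ZMod p) ^ n = 1 := by rw [hn2, mul_comm, pow_mul, hm1, neg_one_sq]
    obtain ⟨i, hi, hio⟩ := (Nat.dvd_prime_pow Nat.prime_two).mp
      ((show n = 2 ^ (j + 2) from hm) ▸ orderOf_dvd_of_pow_eq_one hn1)
    have hio' := orderOf_dvd_of_pow_eq_one ((hdvd k).mp hk)
    rcases Nat.lt_or_ge i (j + 2) with hlt | hge
    · refine hne (orderOf_dvd_iff_pow_eq_one.mp ?_)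
      rw [hio]
      exact pow_dvd_pow 2 (by omega)
    · have := Nat.le_of_dvd hk0 hio'
      rw [hio, show i = j + 2 by omega, ← hm] at this
      omega
  -- `q ^ h + 1` is twice `r`
  have h4 : 4 ∣ 2 * h := ⟨2 ^ j, by rw [hh, pow_succ]; ring⟩
  have hmod : (q ^ h + 1) % 4 = 2 := by
    obtain ⟨t, ht⟩ := hoddq
    have h2 : h = 2 * 2 ^ j := by rw [hh, pow_succ']
    rw [h2, pow_mul, Nat.add_mod, Nat.pow_mod, show q ^ 2 % 4 = 1 by
      rw [ht, show (2 * t + 1) ^ 2 = 4 * (t * t + t) + 1 by ring]; omega, one_pow]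
    rfl
  obtain ⟨w, hw⟩ : 2 ∣ q ^ h + 1 := by omega
  have hwodd : ¬ 2 ∣ w := by omega
  have hwle : w ≤ r := by
    rcases Nat.lt_or_ge w 2 with hw1 | hw1
    · have := hr.two_le
      omega
    have hall : ∀ p : ℕ, p.Prime → p ∣ w → p = r := fun p hp hpw =>
      hodd p hp (hw ▸ hpw.mul_left 2) (fun e => hwodd (e ▸ hpw))
    obtain ⟨p, hp, hpw⟩ := Nat.exists_prime_and_dvd (show w ≠ 1 by omega)
    obtain rfl := hall p hp hpw
    obtain ⟨t, ht⟩ := hpw
    rcases Nat.lt_or_ge t 2 with ht1 | ht1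
    · interval_cases t <;> omega
    · exfalso
      obtain ⟨p', hp', hpt⟩ := Nat.exists_prime_and_dvd (show t ≠ 1 by omega)
      obtain rfl := hall p' hp' (ht ▸ hpt.mul_left _)
      refine hr2 (dvd_trans ?_ hG)
      rw [hfac, hw, ht, pow_two]
      exact Dvd.dvd.mul_right (Dvd.dvd.mul_left (Nat.mul_dvd_mul_left _ hpt) 2) _
  have hqh : q ^ h ≤ 4 * h + 1 := by omega
  have hq3 : 3 ≤ q := by
    have := hq.out.two_le
    omega
  have h3 : ∀ t : ℕ, 3 ≤ t → 4 * t + 1 < 3 ^ t := by
    intro t ht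
    induction t, ht using Nat.le_induction with
    | base => norm_num
    | succ t ht ih => rw [pow_succ]; omega
  have hh2 : h = 2 := by
    have h2 : 2 ≤ h := by rw [hh, pow_succ]; have := Nat.one_le_two_pow (n := j); omega
    by_contra hne
    have := h3 h (by omega)
    have := Nat.pow_le_pow_left hq3 h
    omega
  rw [hh2] at hqh hn2
  have hq' : q = 3 := by
    by_contra hne
    have h5 : 4 ≤ q := by omega
    have := Nat.pow_le_pow_left h5 2
    omega
  rw [hV, hq', hn2]
  norm_num

end CfsgLib.TransitiveLinear
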