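import Mathlib
import Cfsg.Agent.Lib.PSolvable
import Cfsg.Agent.Lib.TransitiveLinear.Large

/-!
Solvable transitive linear groups of dimension two.
-/

set_option autoImplicit false
set_option linter.unusedSectionVars false

namespace CfsgLib.TransitiveLinear

open CfsgLib.RegularLinear (Semi)

/-- A subgroup containing the centre of index four and two elements in different non-trivial cosets is everything. -/
theorem eq_top_of_three {R : Type*} [Group R] [Finite R] (hidx : (Subgroup.center R).index = 4) {S : Subgroup R}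
    (hZ : Subgroup.center R ≤ S) {a b : R} (ha : a ∈ S) (hb : b ∈ S) (ha' : a ∉ Subgroup.center R)
    (hb' : b ∉ Subgroup.center R) (hab : a⁻¹ * b ∉ Subgroup.center R) : S = ⊤ := by
  classical
  have h := Subgroup.relIndex_mul_index hZ
  rw [hidx] at h
  have h3 : 3 ≤ (Subgroup.center R).relIndex S := by
    rw [Subgroup.relIndex, Subgroup.index_eq_card]
    haveI : Fintype (S ⧸ (Subgroup.center R).subgroupOf S) := Fintype.ofFinite _
    rw [Nat.card_eq_fintype_card]
    have hne : ∀ x y : S, (x : R)⁻¹ * y ∉ Subgroup.center R →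
        (QuotientGroup.mk x : S ⧸ (Subgroup.center R).subgroupOf S) ≠ QuotientGroup.mk y := fun x y hxy e =>
      hxy (by simpa [Subgroup.mem_subgroupOf] using QuotientGroup.eq.mp e)
    exact Fintype.two_lt_card_iff.mpr ⟨QuotientGroup.mk 1, QuotientGroup.mk ⟨a, ha⟩, QuotientGroup.mk ⟨b, hb⟩,
      hne _ _ (by simpa using ha'), hne _ _ (by simpa using hb'), hne _ _ hab⟩
  have h1 : S.index = 1 := by
    have : S.index ≠ 0 := Subgroup.index_ne_zero_of_finite
    have hd : (Subgroup.center R).relIndex S ∣ 4 := Dvd.intro _ h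
    have := Nat.le_of_dvd (by norm_num) hd
    generalize (Subgroup.center R).relIndex S = x at *
    interval_cases x <;> omega
  exact Subgroup.index_eq_one.mp h1

theorem card_sq_eq_one_le (Z : Type*) [Group Z] [Finite Z] [IsCyclic Z] : Nat.card {z : Z // z ^ 2 = 1} ≤ 2 := by
  classical
  haveI : Fintype Z := Fintype.ofFinite Z
  rw [Nat.card_eq_fintype_card, Fintype.card_subtype]
  exact IsCyclic.card_pow_eq_one_le (α := Z) (by norm_num)

variable {q : ℕ} [hq : Fact q.Prime] {V : Type*} [AddCommGroup V] [Module (ZMod q) V] [Finite V] [Nontrivial V]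
  {G : Type*} [Group G] [Finite G] {ρ : G →* (V ≃ₗ[ZMod q] V)}
variable (hρ : Function.Injective ρ) (htrans : ∀ v w : V, v ≠ 0 → w ≠ 0 → ∃ g : G, ρ g v = w)
include hρ htrans

/-- The two-dimensional case. -/
theorem two_dim [Group.IsSolvable G] (hn : Module.finrank (ZMod q) V = 2) :
    Semi ρ ∨ q ∈ ({3, 5, 7, 11, 23} : Set ℕ) := by
  classical
  by_cases hA : ∃ A : Subgroup G, A.Normal ∧ (∀ a ∈ A, ∀ b ∈ A, a * b = b * a) ∧ ¬ Nat.card A ∣ q - 1
  · obtain ⟨A, hAn, hAc, hAd⟩ := hA
    left
    refine semi_of_comm hρ htrans A hAc fun i hi hin => ?_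
    rw [hn] at hin
    obtain rfl : i = 1 := by omega
    rwa [pow_one]
  right
  push Not at hA
  have hcen : ∀ A : Subgroup G, A.Normal → (∀ a ∈ A, ∀ b ∈ A, a * b = b * a) → A ≤ Subgroup.center G :=
    fun A hAn hc => @central_of_small _ _ _ _ _ _ _ _ _ _ _ hρ htrans A hAn hc (hA A hAn hc)
  have hdvd := sub_one_dvd_card hρ htrans
  rw [hn] at hdvd
  have hfac : q ^ 2 - 1 = (q + 1) * (q - 1) := by rw [← Nat.sq_sub_sq q 1, one_pow]
  -- some core is not central
  obtain ⟨s, hs⟩ : ∃ s : Nat.Primes, ¬ Cfsg.pCore (s : ℕ) G ≤ Subgroup.center G := by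
    by_contra hall
    push Not at hall
    have hF : Cfsg.fittingSubgroup G ≤ Subgroup.center G := by
      rw [CfsgLib.fittingSubgroup_eq_iSup_pCore]
      exact iSup_le hall
    have htop : ∀ a : G, a ∈ Subgroup.center G := fun a =>
      hF (CfsgLib.centralizer_fitting_le (Subgroup.mem_centralizer_iff.mpr fun b hb =>
        (Subgroup.mem_center_iff.mp (hF hb) a).symm))
    have hd := hA ⊤ inferInstance fun a _ b _ => Subgroup.mem_center_iff.mp (htop b) a
    rw [Subgroup.card_top] at hd
    have := Nat.le_of_dvd (by have := hq.out.two_le; omega) (hdvd.trans hd)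
    have h2 := hq.out.two_le
    have : q * 2 ≤ q ^ 2 := by rw [pow_two]; exact Nat.mul_le_mul_left q h2
    omega
  haveI : Fact (s : ℕ).Prime := ⟨s.2⟩
  -- a minimal non-central normal subgroup of that core
  obtain ⟨R, ⟨hRn, hRP, hRc⟩, hRm⟩ := WellFounded.has_min wellFounded_lt
    {B : Subgroup G | B.Normal ∧ B ≤ Cfsg.pCore (s : ℕ) G ∧ ¬ B ≤ Subgroup.center G}
    ⟨_, inferInstance, le_rfl, hs⟩
  haveI := hRn
  have hR : IsPGroup (s : ℕ) R := (CfsgLib.isPGroup_pCore (s : ℕ) (G := G)).to_le hRP
  have hprop : ∀ B : Subgroup G, B.Normal → B < R → B ≤ Subgroup.center G := fun B hBn hlt => by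
    by_contra h
    exact hRm B ⟨hBn, hlt.le.trans hRP, h⟩ hlt
  haveI : Nontrivial R := (Subgroup.nontrivial_iff_ne_bot R).mpr fun e => hRc (e ▸ bot_le)
  have hZR : (Subgroup.center R).map R.subtype ≤ Subgroup.center G := by
    refine hcen _ inferInstance ?_
    rintro _ ⟨a, ha, rfl⟩ _ ⟨b, hb, rfl⟩
    exact congrArg Subtype.val (Subgroup.mem_center_iff.mp hb a)
  have hnonab : ∃ a b : R, a * b ≠ b * a := by
    by_contra hall
    push Not at hall
    exact hRc (hcen R hRn fun a ha b hb => congrArg Subtype.val (hall ⟨a, ha⟩ ⟨b, hb⟩))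
  have hcom : ∀ a b : R, a * b * a⁻¹ * b⁻¹ ∈ Subgroup.center R := by
    haveI : Group.IsNilpotent R := hR.isNilpotent
    have hD : commutator R < ⊤ := IsSolvable.commutator_lt_top_of_nontrivial R
    have hlt : (commutator R).map R.subtype < R := by
      refine lt_of_le_of_ne (Subgroup.map_subtype_le _) fun e => hD.ne ?_
      refine Subgroup.map_injective R.subtype_injective ?_
      rw [e, ← MonoidHom.range_eq_map, Subgroup.range_subtype]
    have hn' : ((commutator R).map R.subtype).Normal := by
      rw [commutator_def, Subgroup.map_commutator, ← MonoidHom.range_eq_map, Subgroup.range_subtype]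
      exact Subgroup.commutator_normal R R
    intro a b
    have h := hprop _ hn' hlt ⟨_, Subgroup.commutator_mem_commutator (Subgroup.mem_top a) (Subgroup.mem_top b), rfl⟩
    exact Subgroup.mem_center_iff.mpr fun g => Subtype.ext (Subgroup.mem_center_iff.mp h g)
  have hfree : ∀ z ∈ Subgroup.center R, ∀ v : V, v ≠ 0 → (ρ.comp R.subtype) z v = v → z = 1 := fun z hz v hv hfix =>
    Subtype.ext (free_of_comm hρ htrans (A := Subgroup.center G) (fun a _ b hb => Subgroup.mem_center_iff.mp hb a)
      (hZR ⟨z, hz, rfl⟩) hv hfix)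
  haveI : IsCyclic (Subgroup.center G) := (cyclic_dvd_of_comm hρ htrans (A := Subgroup.center G)
    (fun a _ b hb => Subgroup.mem_center_iff.mp hb a) ⊤ top_ne_bot fun _ _ _ _ => Submodule.mem_top).1
  haveI : IsCyclic (Subgroup.center R) :=
    isCyclic_of_injective (MonoidHom.mk' (fun z : Subgroup.center R => (⟨((z : R) : G), hZR ⟨z, z.2, rfl⟩⟩ : Subgroup.center G))
      fun _ _ => rfl) fun z w e =>
        Subtype.ext (Subtype.ext (by exact congrArg (fun u : Subgroup.center G => (u : G)) e))
  obtain ⟨b, hb⟩ := index_sq hcom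
  have hle := index_le_sq (ρ.comp R.subtype) hcom hfree
  have h1 : (Subgroup.center R).index ≠ 1 := fun e => by
    obtain ⟨a, a', hne⟩ := hnonab
    exact hne (Subgroup.mem_center_iff.mp (Subgroup.index_eq_one.mp e ▸ Subgroup.mem_top a') a)
  have hidx : (Subgroup.center R).index = 4 := by
    rw [hn, hb] at hle
    have : (Subgroup.center R).index ≠ 0 := Subgroup.index_ne_zero_of_finite
    rw [hb] at this h1 ⊢
    have hb2 : b ≤ 2 := by nlinarith
    interval_cases b <;> omega
  -- the core is a `2`-group, so `q` is odd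
  have hs2 : (s : ℕ) = 2 := by
    obtain ⟨j, hj⟩ := hR.exists_card_eq
    have := (Subgroup.center R).index_dvd_card
    rw [hidx, hj] at this
    exact ((Nat.prime_dvd_prime_iff_eq Nat.prime_two s.2).mp
      (Nat.prime_two.dvd_of_dvd_pow (Nat.dvd_trans (by norm_num) this))).symm
  have hq2 : q ≠ 2 := fun e => by
    refine hs ?_
    rw [hs2, ← e, pCore_eq_bot hρ htrans]
    exact bot_le
  -- two generators modulo the centre
  obtain ⟨u, v, huv⟩ := hnonab
  have hu : u ∉ Subgroup.center R := fun h => huv (Subgroup.mem_center_iff.mp h v).symm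
  have hv : v ∉ Subgroup.center R := fun h => huv (Subgroup.mem_center_iff.mp h u)
  have huv' : u⁻¹ * v ∉ Subgroup.center R := fun h => huv (by
    have := Subgroup.mem_center_iff.mp h u
    rw [mul_inv_cancel_left] at this
    calc u * v = u * (u⁻¹ * v * u) := by rw [← this]
      _ = v * u := by group)
  have hgen : Subgroup.center R ⊔ Subgroup.closure {u, v} = ⊤ := eq_top_of_three hidx le_sup_left
    (Subgroup.mem_sup_right (Subgroup.subset_closure (Set.mem_insert _ _)))
    (Subgroup.mem_sup_right (Subgroup.subset_closure (Set.mem_insert_of_mem _ rfl))) hu hv huv'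
  have hsq : ∀ w : R, w ^ 2 ∈ Subgroup.center R := by
    intro w
    by_contra hw
    have hw1 : w ∉ Subgroup.center R := fun h => hw (Subgroup.pow_mem _ h 2)
    have h := eq_top_of_three hidx (S := Subgroup.center R ⊔ Subgroup.zpowers w) le_sup_left
      (Subgroup.mem_sup_right (Subgroup.mem_zpowers w))
      (Subgroup.mem_sup_right (Subgroup.pow_mem _ (Subgroup.mem_zpowers w) 2)) hw1 hw
      (by rwa [pow_two, inv_mul_cancel_left])
    refine hw1 (Subgroup.mem_center_iff.mpr fun g => ?_)
    have hle : Subgroup.center R ⊔ Subgroup.zpowers w ≤ Subgroup.centralizer ({w} : Set R) := by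
      refine sup_le (Subgroup.center_le_centralizer _) (Subgroup.zpowers_le.mpr ?_)
      exact Subgroup.mem_centralizer_singleton_iff.mpr rfl
    exact Subgroup.mem_centralizer_singleton_iff.mp (hle (h ▸ Subgroup.mem_top g))
  -- an element centralising `R` is central
  have hCR : ∀ g : G, (∀ a : R, g * (a : G) = a * g) → g ∈ Subgroup.center G := by
    intro g hg
    haveI : Fintype (R ⧸ Subgroup.center R) := Fintype.ofFinite _
    have hli := linearIndependent_out (ρ.comp R.subtype) hcom hfree
    have hspan := hli.span_eq_top_of_card_eq_finrank' (by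
      rw [Module.finrank_linearMap, hn, ← Nat.card_eq_fintype_card, ← Subgroup.index_eq_card, hidx])
    refine Subgroup.mem_center_iff.mpr fun h => hρ (LinearEquiv.toLinearMap_injective ?_)
    have key : ∀ f : Module.End (ZMod q) V, f * (ρ g).toLinearMap = (ρ g).toLinearMap * f := by
      intro f
      have hf : f ∈ Submodule.span (ZMod q)
          (Set.range fun a : R ⧸ Subgroup.center R => ((ρ.comp R.subtype) a.out).toLinearMap) :=
        hspan ▸ Submodule.mem_top
      induction hf using Submodule.span_induction with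
      | mem f hf =>
        obtain ⟨a, rfl⟩ := hf
        refine LinearMap.ext fun w => ?_
        change ρ (a.out : G) (ρ g w) = ρ g (ρ (a.out : G) w)
        rw [← LinearEquiv.mul_apply, ← LinearEquiv.mul_apply, ← map_mul, ← map_mul, hg]
      | zero => rw [zero_mul, mul_zero]
      | add x y _ _ hx hy => rw [add_mul, mul_add, hx, hy]
      | smul c x _ hx => rw [smul_mul_assoc, mul_smul_comm, hx]
    rw [map_mul, map_mul]
    exact key (ρ h).toLinearMap
  have hfix : ∀ g : G, g * (u : G) = u * g → g * (v : G) = v * g → g ∈ Subgroup.center G := by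
    intro g hgu hgv
    refine hCR g fun a => ?_
    have hle : Subgroup.center R ⊔ Subgroup.closure {u, v} ≤
        (Subgroup.centralizer ({g} : Set G)).comap R.subtype := by
      refine sup_le (fun c hc => ?_) ((Subgroup.closure_le _).mpr ?_)
      · exact Subgroup.mem_centralizer_singleton_iff.mpr (Subgroup.mem_center_iff.mp (hZR ⟨c, hc, rfl⟩) g).symm
      · rintro a (rfl | rfl)
        · exact Subgroup.mem_centralizer_singleton_iff.mpr hgu.symm
        · exact Subgroup.mem_centralizer_singleton_iff.mpr hgv.symm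
    exact (Subgroup.mem_centralizer_singleton_iff.mp (hle (hgen ▸ Subgroup.mem_top a))).symm
  -- the quotient by the centre has order at most 24
  let Z := Subgroup.center R
  let img : G → R → R := fun g a => (MulAut.conjNormal g : MulAut R) a
  let mk : R → R ⧸ Z := fun a => QuotientGroup.mk a
  let T := {p : R × R // mk p.1 ≠ 1 ∧ mk p.2 ≠ 1 ∧ mk p.1 ≠ mk p.2 ∧ p.1 ^ 2 = u ^ 2 ∧ p.2 ^ 2 = v ^ 2}
  have hZfix : ∀ (g : G) (z : R), z ∈ Z → img g z = z := fun g z hz => by
    refine Subtype.ext ?_
    have h : g * (z : G) = z * g := Subgroup.mem_center_iff.mp (hZR ⟨z, hz, rfl⟩) g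
    rw [MulAut.conjNormal_apply, h, mul_inv_cancel_right]
  have hmem : ∀ (g : G) (a : R), img g a ∈ Z → a ∈ Z := fun g a h => by
    have h' := (hZfix g⁻¹ _ h)
    have : img g⁻¹ (img g a) = a := by
      change ((MulAut.conjNormal g⁻¹ : MulAut R) * (MulAut.conjNormal g : MulAut R)) a = a
      rw [← map_mul, inv_mul_cancel, map_one]; rfl
    rw [this] at h'
    rwa [h']
  have hmk : ∀ a : R, mk a ≠ 1 ↔ a ∉ Z := fun a => not_congr (QuotientGroup.eq_one_iff a)
  let f : G ⧸ Subgroup.center G → T := fun w =>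
    ⟨(img w.out u, img w.out v), (hmk _).mpr fun h => hu (hmem _ _ h), (hmk _).mpr fun h => hv (hmem _ _ h),
      fun e => huv' (hmem w.out _ (by
        change (MulAut.conjNormal w.out : MulAut R) (u⁻¹ * v) ∈ Z
        rw [map_mul, map_inv]
        exact QuotientGroup.eq.mp e)),
      by change (img w.out u) ^ 2 = u ^ 2; rw [← map_pow, ]; exact hZfix _ _ (hsq u),
      by change (img w.out v) ^ 2 = v ^ 2; rw [← map_pow]; exact hZfix _ _ (hsq v)⟩
  have hf : Function.Injective f := by
    intro w w' e
    rw [← QuotientGroup.out_eq' w, ← QuotientGroup.out_eq' w']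
    refine QuotientGroup.eq.mpr ?_
    have e1 : img w.out u = img w'.out u := congrArg (fun p : T => p.1.1) e
    have e2 : img w.out v = img w'.out v := congrArg (fun p : T => p.1.2) e
    have hconj : ∀ a : R, img w.out a = img w'.out a → w.out⁻¹ * w'.out * (a : G) = a * (w.out⁻¹ * w'.out) := by
      intro a ha
      have h : w.out * (a : G) * w.out⁻¹ = w'.out * (a : G) * w'.out⁻¹ := congrArg Subtype.val ha
      calc w.out⁻¹ * w'.out * (a : G) = w.out⁻¹ * (w'.out * (a : G) * w'.out⁻¹) * w'.out := by group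
        _ = w.out⁻¹ * (w.out * (a : G) * w.out⁻¹) * w'.out := by rw [h]
        _ = a * (w.out⁻¹ * w'.out) := by group
    exact hfix _ (hconj u e1) (hconj v e2)
  have hT : Nat.card T ≤ 24 := by
    haveI : Fintype T := Fintype.ofFinite T
    haveI : Fintype (R ⧸ Z) := Fintype.ofFinite _
    rw [Nat.card_eq_fintype_card, ← Finset.card_univ]
    let κ : T → (R ⧸ Z) × (R ⧸ Z) := fun p => (mk p.1.1, mk p.1.2)
    have hQ4 : Fintype.card (R ⧸ Z) = 4 := by rw [← Nat.card_eq_fintype_card, ← Subgroup.index_eq_card, hidx]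
    have himg : (Finset.univ.image κ).card ≤ 6 := by
      refine (Finset.card_le_card (t := ((Finset.univ : Finset (R ⧸ Z)).erase 1).offDiag) ?_).trans ?_
      · intro p hp
        obtain ⟨t, -, rfl⟩ := Finset.mem_image.mp hp
        rw [Finset.mem_offDiag]
        exact ⟨Finset.mem_erase.mpr ⟨t.2.1, Finset.mem_univ _⟩, Finset.mem_erase.mpr ⟨t.2.2.1, Finset.mem_univ _⟩,
          t.2.2.2.1⟩
      · rw [Finset.offDiag_card, Finset.card_erase_of_mem (Finset.mem_univ _), Finset.card_univ, hQ4]
    refine (Finset.card_le_mul_card_image (f := κ) Finset.univ 4 fun p hp => ?_).trans (by omega)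
    obtain ⟨t₀, -, rfl⟩ := Finset.mem_image.mp hp
    haveI : Fintype {z : Z // z ^ 2 = 1} := Fintype.ofFinite _
    have hdiff : ∀ a a' c : R, a ^ 2 = c → a' ^ 2 = c → mk a' = mk a → a'⁻¹ * a ∈ Z ∧ (a'⁻¹ * a) ^ 2 = 1 := by
      intro a a' c ha ha' e
      have hz := QuotientGroup.eq.mp e
      refine ⟨hz, ?_⟩
      have hcom' : Commute a' (a'⁻¹ * a) := (Subgroup.mem_center_iff.mp hz a')
      have h := hcom'.mul_pow 2
      rw [mul_inv_cancel_left, ha, ha', left_eq_mul] at h
      exact h
    calc (Finset.univ.filter fun t : T => κ t = κ t₀).card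
        ≤ Fintype.card ({z : Z // z ^ 2 = 1} × {z : Z // z ^ 2 = 1}) := by
          rw [← Finset.card_univ]
          refine Finset.card_le_card_of_injOn (fun t =>
            if h : κ t = κ t₀ then
              (⟨⟨t₀.1.1⁻¹ * t.1.1, (hdiff t.1.1 t₀.1.1 _ t.2.2.2.2.1 t₀.2.2.2.2.1 (Prod.ext_iff.mp h).1.symm).1⟩,
                Subtype.ext (hdiff t.1.1 t₀.1.1 _ t.2.2.2.2.1 t₀.2.2.2.2.1 (Prod.ext_iff.mp h).1.symm).2⟩,
               ⟨⟨t₀.1.2⁻¹ * t.1.2, (hdiff t.1.2 t₀.1.2 _ t.2.2.2.2.2 t₀.2.2.2.2.2 (Prod.ext_iff.mp h).2.symm).1⟩,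
                Subtype.ext (hdiff t.1.2 t₀.1.2 _ t.2.2.2.2.2 t₀.2.2.2.2.2 (Prod.ext_iff.mp h).2.symm).2⟩)
            else (⟨1, one_pow 2⟩, ⟨1, one_pow 2⟩)) (fun _ _ => Finset.mem_univ _) ?_
          intro t ht t' ht' e
          simp only [Finset.coe_filter, Finset.mem_univ, true_and, Set.mem_setOf_eq] at ht ht'
          simp only [dif_pos ht, dif_pos ht', Prod.mk.injEq, Subtype.mk.injEq] at e
          exact Subtype.ext (Prod.ext (mul_left_cancel e.1) (mul_left_cancel e.2))
      _ ≤ 4 := by
          rw [Fintype.card_prod, ← Nat.card_eq_fintype_card]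
          exact Nat.mul_le_mul (card_sq_eq_one_le Z) (card_sq_eq_one_le Z)
  have hc24 : (Subgroup.center G).index ≤ 24 := by
    rw [Subgroup.index_eq_card]
    exact (Nat.card_le_card_of_injective f hf).trans hT
  -- four divides the index
  have h4 : 4 ∣ (Subgroup.center G).index := by
    have hsub : (Subgroup.center G).subgroupOf R = Subgroup.center R := by
      ext a
      rw [Subgroup.mem_subgroupOf]
      exact ⟨fun ha => Subgroup.mem_center_iff.mpr fun g => Subtype.ext (Subgroup.mem_center_iff.mp ha g),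
        fun ha => hZR ⟨a, ha, rfl⟩⟩
    have := Subgroup.relIndex_dvd_index_of_normal (Subgroup.center G) R
    rwa [Subgroup.relIndex, hsub, hidx] at this
  -- five does not
  have h5 : ¬ 5 ∣ (Subgroup.center G).index := by
    intro h5
    rw [Subgroup.index_eq_card] at h5
    haveI := Fact.mk Nat.prime_five
    obtain ⟨w, hw⟩ := exists_prime_orderOf_dvd_card' 5 h5
    set g := w.out with hg
    have hg5 : g ^ 5 ∈ Subgroup.center G := by
      rw [← QuotientGroup.eq_one_iff, QuotientGroup.mk_pow, hg, QuotientGroup.out_eq', ← hw, pow_orderOf_eq_one]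
    let τ : Equiv.Perm (R ⧸ Z) :=
      (QuotientGroup.congr Z Z (MulAut.conjNormal g : MulAut R) (by
        refine le_antisymm ?_ fun z hz => ⟨z, hz, hZfix g z hz⟩
        rintro _ ⟨z, hz, rfl⟩
        change img g z ∈ Z
        rw [hZfix g z hz]; exact hz)).toEquiv
    have hτ : ∀ a : R, τ (mk a) = mk (img g a) := fun a => rfl
    have hpow : ∀ (j : ℕ) (a : R), (τ ^ j) (mk a) = mk (img (g ^ j) a) := fun j => by
      induction j with
      | zero =>
        intro a
        change mk a = mk ((MulAut.conjNormal (g ^ 0) : MulAut R) a)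
        rw [pow_zero, map_one]; rfl
      | succ j ih =>
        intro a
        rw [pow_succ', Equiv.Perm.mul_apply, ih, hτ, pow_succ']
        change _ = mk ((MulAut.conjNormal (g * g ^ j) : MulAut R) a)
        rw [map_mul]; rfl
    have hg5' : ∀ a : R, img (g ^ 5) a = a := fun a => Subtype.ext (by
      rw [MulAut.conjNormal_apply, ← Subgroup.mem_center_iff.mp hg5 (a : G), mul_inv_cancel_right])
    have hτ5 : τ ^ 5 = 1 := Equiv.ext fun c => by
      obtain ⟨a, rfl⟩ := QuotientGroup.mk_surjective c
      rw [hpow, hg5']; rfl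
    have hτ1 : τ = 1 := by
      haveI : Fintype (R ⧸ Z) := Fintype.ofFinite _
      have h1 := orderOf_dvd_of_pow_eq_one hτ5
      have h2 := orderOf_dvd_natCard τ
      rw [Nat.card_perm, ← Subgroup.index_eq_card, hidx] at h2
      exact orderOf_eq_one_iff.mp (Nat.eq_one_of_dvd_coprimes (by decide : Nat.Coprime 5 (Nat.factorial 4)) h1 h2)
    have key : ∀ a : R, (∀ b : R, b ^ 2 ∈ Z) → img g a = a := by
      intro a _
      have h := hτ a
      rw [hτ1] at h
      set z := a⁻¹ * img g a with hzd
      have hz : z ∈ Z := QuotientGroup.eq.mp h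
      have h1 : img g a = a * z := by rw [hzd, mul_inv_cancel_left]
      have h2 : z ^ 2 = 1 := by
        have e : (img g a) ^ 2 = a ^ 2 := by
          change ((MulAut.conjNormal g : MulAut R) a) ^ 2 = _
          rw [← map_pow]; exact hZfix g _ (hsq a)
        rw [h1, (show Commute a z from Subgroup.mem_center_iff.mp hz a).mul_pow] at e
        exact mul_eq_left.mp e
      have hp : ∀ j : ℕ, img (g ^ j) a = a * z ^ j := fun j => by
        induction j with
        | zero =>
          change (MulAut.conjNormal (g ^ 0) : MulAut R) a = _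
          rw [pow_zero, map_one, pow_zero, mul_one]; rfl
        | succ j ih =>
          have e : img (g ^ (j + 1)) a = img g (img (g ^ j) a) := by
            change (MulAut.conjNormal (g ^ (j + 1)) : MulAut R) a = _
            rw [pow_succ', map_mul]; rfl
          rw [e, ih]
          change (MulAut.conjNormal g : MulAut R) (a * z ^ j) = _
          rw [map_mul, map_pow, show (MulAut.conjNormal g : MulAut R) a = a * z from h1,
            show (MulAut.conjNormal g : MulAut R) z = z from hZfix g z hz, pow_succ', mul_assoc]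
      have h5' := hp 5
      rw [hg5', left_eq_mul, show (5 : ℕ) = 2 * 2 + 1 from rfl, pow_succ, pow_mul, h2, one_pow, one_mul] at h5'
      rw [h1, h5', mul_one]
    have hgc : g ∈ Subgroup.center G := hfix g
      (mul_inv_eq_iff_eq_mul.mp (congrArg Subtype.val (key u hsq)))
      (mul_inv_eq_iff_eq_mul.mp (congrArg Subtype.val (key v hsq)))
    have hw1 : w = 1 := by rw [← QuotientGroup.out_eq' w, ← hg]; exact (QuotientGroup.eq_one_iff g).mpr hgc
    rw [hw1, orderOf_one] at hw
    norm_num at hw
  -- arithmetic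
  have hz := hA (Subgroup.center G) inferInstance fun a _ b hb => Subgroup.mem_center_iff.mp hb a
  have hzc := (Subgroup.center G).card_mul_index
  obtain ⟨e, he⟩ := hz
  have hqc : q + 1 ∣ (Subgroup.center G).index := by
    refine (dvd_mul_right (q + 1) e).trans (Nat.dvd_of_mul_dvd_mul_left (Nat.card_pos (α := Subgroup.center G)) ?_)
    rw [hzc]
    refine dvd_trans ?_ hdvd
    rw [hfac, he]
    exact dvd_of_eq (by ring)
  have hqle := Nat.le_of_dvd (Nat.pos_of_ne_zero Subgroup.index_ne_zero_of_finite) hqc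
  generalize (Subgroup.center G).index = c at h4 h5 hqc hc24 hqle
  have hp := hq.out
  have := hp.two_le
  have : q ≤ 23 := by omega
  simp only [Set.mem_insert_iff, Set.mem_singleton_iff]
  interval_cases q <;> first | omega | norm_num at hp

end CfsgLib.TransitiveLinear
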